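import Mathlib

/-!
The field model of an irreducible action of a group of prime order `q` in characteristic `p`:
`GF(p^a)` with multiplication by a primitive `q`-th root of unity, `a` the order of `p` mod `q`.
-/

set_option autoImplicit false
set_option linter.style.haveILetI false

namespace CfsgLib.Universal85

open Polynomial

variable {p : ℕ} [hp : Fact p.Prime]

/-- The order of `p` modulo another prime is positive. -/
theorem orderOf_pos' {q : ℕ} [Fact q.Prime] (hpq : p ≠ q) : 0 < orderOf (p : ZMod q) := by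
  have h : (p : ZMod q) ≠ 0 := fun h => hpq
    ((Nat.prime_dvd_prime_iff_eq (Fact.out : q.Prime) hp.out).1 ((ZMod.natCast_eq_zero_iff _ _).1 h)).symm
  exact orderOf_pos_iff.2 (isOfFinOrder_iff_pow_eq_one.2
    ⟨q - 1, by have := (Fact.out : q.Prime).two_le; omega, ZMod.pow_card_sub_one_eq_one h⟩)

/-- `q` divides `p^a - 1`. -/
theorem dvd_pow_orderOf_sub_one (q : ℕ) : q ∣ p ^ orderOf (p : ZMod q) - 1 := by
  rcases q with _ | q
  · have h : orderOf (p : ZMod 0) = 0 := by
      rw [orderOf_eq_zero_iff']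
      intro n hn h
      have : (p : ℤ) ^ n = 1 := h
      have h2 : 1 < p ^ n := Nat.one_lt_pow hn.ne' hp.out.one_lt
      norm_cast at this
      omega
    rw [h]; simp
  · rw [← ZMod.natCast_eq_zero_iff, Nat.cast_sub (Nat.one_le_pow _ _ hp.out.pos), Nat.cast_pow,
      pow_orderOf_eq_one, Nat.cast_one, sub_self]

/-- A primitive `q`-th root of unity in `GF(p^a)`. -/
theorem exists_root {q : ℕ} [Fact q.Prime] (hpq : p ≠ q) :
    ∃ ζ : GaloisField p (orderOf (p : ZMod q)), orderOf ζ = q := by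
  set a := orderOf (p : ZMod q)
  haveI : Fintype (GaloisField p a) := Fintype.ofFinite _
  have hd : q ∣ Nat.card (GaloisField p a)ˣ := by
    rw [Nat.card_units, GaloisField.card p a (orderOf_pos' hpq).ne']
    exact dvd_pow_orderOf_sub_one q
  obtain ⟨u, hu⟩ := exists_prime_orderOf_dvd_card' q hd
  exact ⟨u, by rw [orderOf_units, hu]⟩

variable {q : ℕ} [hq : Fact q.Prime] {a : ℕ}

/-- A subring of `GF(p^a)` containing `ζ` is everything. -/
theorem subring_eq_top (ha : a = orderOf (p : ZMod q)) (ha0 : a ≠ 0) {ζ : GaloisField p a}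
    (hζ : orderOf ζ = q) (R : Subring (GaloisField p a)) (hR : ζ ∈ R) : R = ⊤ := by
  classical
  haveI : Fintype R := Fintype.ofFinite R
  letI : Field R := Fintype.fieldOfDomain R
  have hcp : CharP R p := inferInstance
  obtain ⟨d, -, hd⟩ := FiniteField.card R p
  have hqd : q ∣ p ^ (d : ℕ) - 1 := by
    rw [← hd, ← Fintype.card_units]
    have hζ0 : (⟨ζ, hR⟩ : R) ≠ 0 := fun h => by
      have h' : ζ = 0 := congrArg Subtype.val h
      rw [h', orderOf_zero] at hζ
      exact hq.out.pos.ne hζ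
    have hu : orderOf (Units.mk0 (⟨ζ, hR⟩ : R) hζ0) = q := by
      rw [← orderOf_units, Units.val_mk0, ← orderOf_injective R.subtype.toMonoidHom R.subtype_injective]
      exact hζ
    exact hu ▸ orderOf_dvd_card
  have had : a ∣ (d : ℕ) := by
    rw [ha, orderOf_dvd_iff_pow_eq_one]
    have h1 : ((p ^ (d : ℕ) - 1 : ℕ) : ZMod q) = 0 := (ZMod.natCast_eq_zero_iff _ _).2 hqd
    rwa [Nat.cast_sub (Nat.one_le_pow _ _ hp.out.pos), Nat.cast_pow, Nat.cast_one, sub_eq_zero] at h1
  have hle : Nat.card (GaloisField p a) ≤ Nat.card R := by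
    rw [GaloisField.card p a ha0, Nat.card_eq_fintype_card, hd]
    exact Nat.pow_le_pow_right hp.out.pos (Nat.le_of_dvd d.pos had)
  have hsub : (R : Set (GaloisField p a)) = Set.univ :=
    Set.eq_of_subset_of_ncard_le (Set.subset_univ _) (by
      rw [Set.ncard_univ, ← Nat.card_coe_set_eq]; exact hle)
  exact SetLike.coe_injective (by rw [hsub]; rfl)

/-- A `ζ`-invariant additive subgroup of `GF(p^a)` is trivial or everything. -/
theorem invariant_cases (ha : a = orderOf (p : ZMod q)) (ha0 : a ≠ 0) {ζ : GaloisField p a}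
    (hζ : orderOf ζ = q) (W : AddSubgroup (GaloisField p a)) (hW : ∀ w ∈ W, ζ * w ∈ W) :
    W = ⊥ ∨ W = ⊤ := by
  let R : Subring (GaloisField p a) :=
    { carrier := {k | ∀ w ∈ W, k * w ∈ W}
      one_mem' := fun w hw => by rwa [one_mul]
      zero_mem' := fun w _ => by rw [zero_mul]; exact W.zero_mem
      mul_mem' := fun {k l} hk hl w hw => by rw [mul_assoc]; exact hk _ (hl w hw)
      add_mem' := fun {k l} hk hl w hw => by rw [add_mul]; exact W.add_mem (hk w hw) (hl w hw)
      neg_mem' := fun {k} hk w hw => by rw [neg_mul]; exact W.neg_mem (hk w hw) }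
  have hR := subring_eq_top ha ha0 hζ R hW
  by_cases h : ∃ w ∈ W, w ≠ 0
  · obtain ⟨w, hw, hw0⟩ := h
    refine Or.inr (eq_top_iff.2 fun k _ => ?_)
    have := (hR ▸ Subring.mem_top (k * w⁻¹) : k * w⁻¹ ∈ R) w hw
    rwa [mul_assoc, inv_mul_cancel₀ hw0, mul_one] at this
  · push Not at h
    exact Or.inl ((AddSubgroup.eq_bot_iff_forall _).2 h)

/-- An irreducible automorphism of order `q` of an `𝔽_p`-space is, after replacing it by a power, the
multiplication by `ζ` on `GF(p^a)`. -/
theorem exists_field_model (ha : a = orderOf (p : ZMod q)) (ha0 : a ≠ 0) {ζ : GaloisField p a}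
    (hζ : orderOf ζ = q) {V : Type*} [AddCommGroup V] [Module (ZMod p) V] [Finite V]
    (T : Module.End (ZMod p) V) (hTq : T ^ q = 1) (hT1 : T ≠ 1)
    (hirr : ∀ W : AddSubgroup V, (∀ w ∈ W, T w ∈ W) → W = ⊥ ∨ W = ⊤) :
    ∃ (j : ℕ) (φ : GaloisField p a →+ V), j.Coprime q ∧ Function.Bijective φ ∧
      ∀ k, φ (ζ * k) = (T ^ j) (φ k) := by
  classical
  obtain ⟨v, hv⟩ : ∃ v : V, v ≠ 0 := by
    by_contra! h
    exact hT1 (LinearMap.ext fun x => by rw [h x, map_zero]; rfl)
  have hζq : ζ ^ q = 1 := hζ ▸ pow_orderOf_eq_one ζ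
  have hζinj : ∀ i < q, ∀ j < q, ζ ^ i = ζ ^ j → i = j := fun i hi j hj h =>
    pow_injOn_Iio_orderOf (by rw [hζ]; exact hi) (by rw [hζ]; exact hj) h
  -- `X^q - 1` is the product of the `X - ζ^i`
  have hprod : (∏ i ∈ Finset.range q, (X - C (ζ ^ i))) = X ^ q - 1 := by
    have hprim : IsPrimitiveRoot ζ q := hζ ▸ IsPrimitiveRoot.orderOf ζ
    have h := X_pow_sub_C_eq_prod hprim hq.out.pos (one_pow q)
    simp only [mul_one, map_one] at h
    exact h.symm
  let I : Ideal (ZMod p)[X] := RingHom.ker (aeval T).toRingHom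
  obtain ⟨m, hm⟩ := (IsPrincipalIdealRing.principal I).principal
  have hmem : ∀ g : (ZMod p)[X], aeval T g = 0 ↔ m ∣ g := fun g => by
    rw [← Ideal.mem_span_singleton]
    change g ∈ I ↔ g ∈ Submodule.span _ {m}
    rw [hm]
  have hmdvd : m ∣ X ^ q - 1 := (hmem _).1 (by rw [map_sub, map_pow, aeval_X, map_one, hTq, sub_self])
  have hirrm : ∀ g h : (ZMod p)[X], m ∣ g * h → m ∣ g ∨ m ∣ h := by
    intro g h hgh
    have h0 := (hmem _).2 hgh
    rw [map_mul] at h0
    rcases hirr ((aeval T h).range.toAddSubgroup) (by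
        rintro _ ⟨x, rfl⟩
        refine ⟨T x, ?_⟩
        have hc : aeval T h * T = T * aeval T h := by
          have h' := ((Commute.all h (X : (ZMod p)[X])).map (aeval T)).eq
          rwa [aeval_X] at h'
        exact LinearMap.congr_fun hc x) with hb | ht
    · right
      refine (hmem h).1 (LinearMap.ext fun x => ?_)
      have : aeval T h x ∈ (aeval T h).range.toAddSubgroup := ⟨x, rfl⟩
      rw [hb, AddSubgroup.mem_bot] at this
      exact this
    · left
      refine (hmem g).1 (LinearMap.ext fun x => ?_)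
      obtain ⟨y, rfl⟩ : x ∈ (aeval T h).range.toAddSubgroup := ht ▸ AddSubgroup.mem_top x
      exact LinearMap.congr_fun h0 y
  have hm0 : m ≠ 0 := fun h => by
    rw [h, zero_dvd_iff] at hmdvd
    exact X_pow_sub_C_ne_zero (R := ZMod p) hq.out.pos 1 (by rwa [map_one])
  have hmu : ¬ IsUnit m := fun h => by
    have h1 := (hmem 1).2 h.dvd
    rw [map_one] at h1
    exact hv (LinearMap.congr_fun h1 v)
  have hprime : Prime m := ⟨hm0, hmu, hirrm⟩
  -- `m` has a root `ζ^i`
  obtain ⟨i, hiq, hi⟩ : ∃ i < q, aeval (ζ ^ i) m = 0 := by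
    by_contra! hall
    set mK := m.map (algebraMap (ZMod p) (GaloisField p a)) with hmK
    have hdvd : mK ∣ ∏ i ∈ Finset.range q, (X - C (ζ ^ i)) := by
      rw [hprod]
      have := map_dvd (mapRingHom (algebraMap (ZMod p) (GaloisField p a))) hmdvd
      simpa [hmK] using this
    have hcop : IsCoprime mK (∏ i ∈ Finset.range q, (X - C (ζ ^ i))) := by
      refine IsCoprime.prod_right fun i hi => ?_
      refine ((irreducible_X_sub_C (ζ ^ i)).coprime_iff_not_dvd.2 fun h => ?_).symm
      rw [dvd_iff_isRoot, IsRoot, hmK, eval_map, ← aeval_def] at h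
      exact hall i (Finset.mem_range.1 hi) h
    have hu := hcop.isUnit_of_dvd' dvd_rfl hdvd
    rw [hmK, isUnit_map] at hu
    exact hmu hu
  have hi0 : i ≠ 0 := by
    rintro rfl
    rw [pow_zero] at hi
    have h1 : X - 1 ∣ m := by
      rw [← map_one (C : ZMod p →+* (ZMod p)[X]), dvd_iff_isRoot, IsRoot]
      have h2 : aeval (1 : GaloisField p a) m = algebraMap (ZMod p) _ (m.eval 1) := by
        rw [← map_one (algebraMap (ZMod p) (GaloisField p a)), aeval_algebraMap_apply]; rfl
      rw [h2, map_eq_zero] at hi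
      exact hi
    have h3 : m ∣ X - 1 :=
      (Irreducible.dvd_symm (by simpa using irreducible_X_sub_C (1 : ZMod p)) hprime.irreducible h1)
    have h4 := (hmem _).2 h3
    rw [map_sub, aeval_X, map_one, sub_eq_zero] at h4
    exact hT1 h4
  -- invert `i`
  have hicop : i.Coprime q := (Nat.Prime.coprime_iff_not_dvd hq.out).2
    (fun h => absurd (Nat.le_of_dvd (Nat.pos_of_ne_zero hi0) h) (not_le.2 hiq)) |>.symm
  obtain ⟨j, -, hij⟩ := Nat.exists_mul_mod_eq_one_of_coprime hicop hq.out.one_lt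
  have hjcop : j.Coprime q := (Nat.Prime.coprime_iff_not_dvd hq.out).2 (fun h => by
    have h1 : i * j % q = 0 := Nat.mod_eq_zero_of_dvd (dvd_mul_of_dvd_right h i)
    omega) |>.symm
  have hζij : (ζ ^ i) ^ j = ζ := by
    rw [← pow_mul]
    conv_lhs => rw [← Nat.div_add_mod (i * j) q, hij, pow_add, pow_mul, hζq, one_pow, one_mul, pow_one]
  -- polynomial relations of `ζ` hold for `T^j`
  have hrel : ∀ g : (ZMod p)[X], aeval ζ g = 0 → aeval (T ^ j) g = 0 := by
    intro g hg
    have h1 : aeval (ζ ^ i) (g.comp (X ^ j)) = 0 := by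
      rw [aeval_comp, map_pow, aeval_X, hζij, hg]
    rw [← aeval_X (R := ZMod p) T, ← map_pow, ← aeval_comp, hmem]
    by_contra hnd
    obtain ⟨u, w, huw⟩ := (hprime.irreducible.coprime_iff_not_dvd.2 hnd)
    have h2 := congrArg (aeval (ζ ^ i)) huw
    rw [map_add, map_mul, map_mul, hi, h1, mul_zero, mul_zero, add_zero, map_one] at h2
    exact zero_ne_one h2
  -- the map
  have hsurjζ : ∀ k : GaloisField p a, ∃ g : (ZMod p)[X], aeval ζ g = k := by
    intro k
    have h := subring_eq_top ha ha0 hζ (aeval (R := ZMod p) ζ).range.toSubring ⟨X, aeval_X ζ⟩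
    exact (h ▸ Subring.mem_top k : k ∈ (aeval (R := ZMod p) ζ).range.toSubring)
  choose G hG using hsurjζ
  have hwd : ∀ (g : (ZMod p)[X]) (k : GaloisField p a), aeval ζ g = k →
      aeval (T ^ j) g v = aeval (T ^ j) (G k) v := by
    intro g k hgk
    have := hrel (g - G k) (by rw [map_sub, hgk, hG, sub_self])
    rw [map_sub, sub_eq_zero] at this
    rw [this]
  let φ : GaloisField p a →+ V :=
    AddMonoidHom.mk' (fun k => aeval (T ^ j) (G k) v) fun k l => by
      rw [← hwd (G k + G l) (k + l) (by rw [map_add, hG, hG]), map_add, LinearMap.add_apply]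
  have hφmul : ∀ k, φ (ζ * k) = (T ^ j) (φ k) := fun k => by
    show aeval (T ^ j) (G (ζ * k)) v = (T ^ j) (aeval (T ^ j) (G k) v)
    rw [← hwd (X * G k) (ζ * k) (by rw [map_mul, aeval_X, hG]), map_mul, aeval_X]
    rfl
  have hφ1 : φ 1 = v := by
    show aeval (T ^ j) (G 1) v = v
    rw [← hwd 1 1 (map_one _), map_one]; rfl
  refine ⟨j, φ, hjcop, ⟨?_, fun w => ?_⟩, hφmul⟩
  · rw [injective_iff_map_eq_zero]
    rcases invariant_cases ha ha0 hζ φ.ker (fun w hw => by
      rw [AddMonoidHom.mem_ker] at hw ⊢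
      rw [hφmul, hw, map_zero]) with h | h
    · exact fun k hk => (AddSubgroup.eq_bot_iff_forall _).1 h k hk
    · exact absurd (hφ1 ▸ (h ▸ AddSubgroup.mem_top 1 : (1 : GaloisField p a) ∈ φ.ker)) hv
  · rcases hirr φ.range (by
      rintro _ ⟨k, rfl⟩
      -- `T` is a power of `T^j`
      have hpow : ∀ n : ℕ, ((T ^ j) ^ n) (φ k) ∈ φ.range := by
        intro n
        induction n with
        | zero => exact ⟨k, rfl⟩
        | succ n ih =>
          obtain ⟨l, hl⟩ := ih
          exact ⟨ζ * l, by rw [hφmul, hl, pow_succ']; rfl⟩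
      have hTj : (T ^ j) ^ i = T := by
        rw [← pow_mul, mul_comm]
        conv_lhs => rw [← Nat.div_add_mod (i * j) q, hij, pow_add, pow_mul, hTq, one_pow, one_mul, pow_one]
      exact hTj ▸ hpow i) with h | h
    · exact absurd ((AddSubgroup.eq_bot_iff_forall _).1 h v ⟨1, hφ1⟩) hv
    · exact (h ▸ AddSubgroup.mem_top w : w ∈ φ.range)

end CfsgLib.Universal85
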