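import Mathlib
import Cfsg.Prelude.Def_Transfer
import Cfsg.Agent.Lib.Universal85.Model
import Cfsg.Agent.Lib.Solvable.NilpotentSubgroups

/-!
The minimal non-`p`-nilpotent group `GF(p^a) ⋊ C_{q^r}` and its central extensions.
-/

set_option autoImplicit false
set_option linter.style.haveILetI false

namespace CfsgLib.Universal85

open scoped commutatorElement

/-- The homomorphism from a cyclic group given by an element of dividing order. -/
noncomputable def powHom {G : Type*} [Group G] (g : G) (n : ℕ) (h : g ^ n = 1) :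
    Multiplicative (ZMod n) →* G :=
  AddMonoidHom.toMultiplicativeLeft (ZMod.lift n ⟨zmultiplesHom (Additive G) (Additive.ofMul g), by
    rw [zmultiplesHom_apply, natCast_zsmul, ← ofMul_pow, h, ofMul_one]⟩)

theorem powHom_ofAdd {G : Type*} [Group G] (g : G) (n : ℕ) (h : g ^ n = 1) (k : ℕ) :
    powHom g n h (Multiplicative.ofAdd (k : ZMod n)) = g ^ k := by
  show Additive.toMul (ZMod.lift n (A := Additive G) _ (k : ZMod n)) = _
  rw [← (Int.cast_natCast k : ((k : ℤ) : ZMod n) = (k : ZMod n)), ZMod.lift_coe]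
  simp [zmultiplesHom_apply]

theorem powHom_one {G : Type*} [Group G] (g : G) (n : ℕ) (h : g ^ n = 1) :
    powHom g n h (Multiplicative.ofAdd 1) = g := by
  simpa using powHom_ofAdd g n h 1

variable {K : Type*} [Field K]

/-- Units act by multiplication on the additive group. -/
def mulAct : Kˣ →* MulAut (Multiplicative K) where
  toFun u :=
    { toFun := fun x => Multiplicative.ofAdd ((u : K) * x.toAdd)
      invFun := fun x => Multiplicative.ofAdd (((u⁻¹ : Kˣ) : K) * x.toAdd)
      left_inv := fun x => by simp [← mul_assoc]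
      right_inv := fun x => by simp [← mul_assoc]
      map_mul' := fun x y => by simp [mul_add] }
  map_one' := by ext x; simp
  map_mul' u v := by ext x; simp [mul_assoc]

variable (ζ : Kˣ) (n : ℕ) (hn : ζ ^ n = 1)

/-- The action defining the base group. -/
noncomputable def baseAct : Multiplicative (ZMod n) →* MulAut (Multiplicative K) :=
  mulAct.comp (powHom ζ n hn)

/-- The base group `GF(p^a) ⋊ C_n`. -/
abbrev Base := Multiplicative K ⋊[baseAct ζ n hn] Multiplicative (ZMod n)

theorem baseAct_ofAdd (k : ℕ) (x : Multiplicative K) :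
    baseAct ζ n hn (Multiplicative.ofAdd (k : ZMod n)) x = Multiplicative.ofAdd ((ζ : K) ^ k * x.toAdd) := by
  show mulAct (powHom ζ n hn _) x = _
  rw [powHom_ofAdd]
  show Multiplicative.ofAdd (((ζ ^ k : Kˣ) : K) * x.toAdd) = _
  rw [Units.val_pow_eq_pow_val]

theorem baseAct_one (x : Multiplicative K) :
    baseAct ζ n hn (Multiplicative.ofAdd 1) x = Multiplicative.ofAdd ((ζ : K) * x.toAdd) := by
  simpa using baseAct_ofAdd ζ n hn 1 x

variable {ζ n hn}

theorem inr_conj_inl (x : Multiplicative K) :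
    (SemidirectProduct.inr (Multiplicative.ofAdd 1) : Base ζ n hn) * SemidirectProduct.inl x *
        (SemidirectProduct.inr (Multiplicative.ofAdd 1) : Base ζ n hn)⁻¹ =
      SemidirectProduct.inl (Multiplicative.ofAdd ((ζ : K) * x.toAdd)) := by
  rw [← map_inv, ← SemidirectProduct.inl_aut, baseAct_one]

section Field

variable {p q r : ℕ} [hp : Fact p.Prime] [hq : Fact q.Prime]
  {ζ : (GaloisField p (orderOf (p : ZMod q)))ˣ} {hn : ζ ^ (q ^ r) = 1}

instance : Finite (Base ζ (q ^ r) hn) :=
  haveI : NeZero (q ^ r) := ⟨pow_ne_zero _ hq.out.ne_zero⟩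
  Finite.of_equiv (Multiplicative (GaloisField p (orderOf (p : ZMod q))) × Multiplicative (ZMod (q ^ r)))
    SemidirectProduct.equivProd.symm

theorem card_base (hpq : p ≠ q) :
    Nat.card (Base ζ (q ^ r) hn) = p ^ orderOf (p : ZMod q) * q ^ r := by
  rw [Nat.card_congr SemidirectProduct.equivProd, Nat.card_prod, Nat.card_congr Multiplicative.toAdd,
    Nat.card_congr Multiplicative.toAdd, GaloisField.card p _ (orderOf_pos' hpq).ne', Nat.card_zmod]

/-- Every proper subgroup of the base group is nilpotent. -/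
theorem base_proper_nilpotent (hpq : p ≠ q) (hζ : orderOf (Units.val ζ) = q) (hr : 1 ≤ r)
    (M : Subgroup (Base ζ (q ^ r) hn)) (hM : M ≠ ⊤) : Group.IsNilpotent M := by
  haveI : NeZero (q ^ r) := ⟨pow_ne_zero _ hq.out.ne_zero⟩
  suffices h : ∀ x y : M, x * y = y * x by
    letI : CommGroup M := { mul_comm := h }
    exact CommGroup.isNilpotent
  set g : Base ζ (q ^ r) hn →* Multiplicative (ZMod (q ^ r)) := SemidirectProduct.rightHom with hg
  by_cases htop : ∀ c : Multiplicative (ZMod (q ^ r)), c ∈ M.map g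
  · obtain ⟨t, ht, htr⟩ := htop (Multiplicative.ofAdd 1)
    let W : AddSubgroup (GaloisField p (orderOf (p : ZMod q))) :=
      { carrier := {k | SemidirectProduct.inl (Multiplicative.ofAdd k) ∈ M}
        zero_mem' := by simp
        add_mem' := fun {k l} hk hl => by
          simp only [Set.mem_setOf_eq, ofAdd_add, map_mul] at *
          exact M.mul_mem hk hl
        neg_mem' := fun {k} hk => by
          simp only [Set.mem_setOf_eq, ofAdd_neg, map_inv] at *
          exact M.inv_mem hk }
    have hW : ∀ w ∈ W, (Units.val ζ) * w ∈ W := by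
      intro w hw
      show SemidirectProduct.inl _ ∈ M
      have h1 := M.mul_mem (M.mul_mem ht hw) (M.inv_mem ht)
      have e : t * SemidirectProduct.inl (Multiplicative.ofAdd w) * t⁻¹ =
          SemidirectProduct.inl (Multiplicative.ofAdd ((Units.val ζ) * w)) := by
        have ht' : t = SemidirectProduct.inl t.left * SemidirectProduct.inr (Multiplicative.ofAdd 1) := by
          rw [← htr]; exact (SemidirectProduct.inl_left_mul_inr_right t).symm
        rw [ht']
        calc _ = SemidirectProduct.inl t.left * ((SemidirectProduct.inr (Multiplicative.ofAdd 1) :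
              Base ζ (q ^ r) hn) * SemidirectProduct.inl (Multiplicative.ofAdd w) *
              (SemidirectProduct.inr (Multiplicative.ofAdd 1) : Base ζ (q ^ r) hn)⁻¹) *
              (SemidirectProduct.inl t.left)⁻¹ := by
              group
          _ = _ := by
              rw [inr_conj_inl, toAdd_ofAdd, ← map_inv, ← map_mul, ← map_mul, mul_comm t.left,
                mul_inv_cancel_right]
      rwa [e] at h1
    rcases invariant_cases rfl (orderOf_pos' hpq).ne' hζ W hW with hb | ht'
    · intro x y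
      have hinj : ∀ z : M, g z = 1 → z = 1 := by
        intro z hz
        have hz' : (z : Base ζ (q ^ r) hn) = SemidirectProduct.inl (z : Base ζ (q ^ r) hn).left := by
          ext
          · simp
          · simpa [hg] using hz
        have hmem : (z : Base ζ (q ^ r) hn).left.toAdd ∈ W := by
          show SemidirectProduct.inl _ ∈ M
          rw [ofAdd_toAdd, ← hz']; exact z.2
        rw [hb, AddSubgroup.mem_bot] at hmem
        apply Subtype.ext
        rw [hz', show (z : Base ζ (q ^ r) hn).left = 1 from hmem, map_one]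
        rfl
      have h1 := hinj (x * y * x⁻¹ * y⁻¹) (by
        simp only [Subgroup.coe_mul, Subgroup.coe_inv, map_mul, map_inv]
        rw [mul_comm (g x) (g y)]; group)
      exact commutatorElement_eq_one_iff_mul_comm.1 h1
    · exfalso
      refine hM (top_le_iff.1 fun z _ => ?_)
      obtain ⟨w, hw, hwr⟩ := htop (g z)
      have hk : z * w⁻¹ = SemidirectProduct.inl (z * w⁻¹).left := by
        apply SemidirectProduct.ext
        · simp
        · have : g (z * w⁻¹) = 1 := by rw [map_mul, map_inv, hwr, mul_inv_cancel]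
          simpa [hg] using this
      have h2 : z * w⁻¹ ∈ M := by
        rw [hk]
        exact (ht' ▸ AddSubgroup.mem_top (z * w⁻¹).left.toAdd : _ ∈ W)
      simpa using M.mul_mem h2 hw
  · push Not at htop
    obtain ⟨c₀, hc₀⟩ := htop
    have hkill : ∀ x : M, baseAct ζ (q ^ r) hn (g x) = 1 := by
      intro x
      obtain ⟨k, hk⟩ : ∃ k : ℕ, (k : ZMod (q ^ r)) = (g x).toAdd := ⟨_, ZMod.natCast_rightInverse _⟩
      have hgx : g x = Multiplicative.ofAdd (k : ZMod (q ^ r)) := by rw [hk, ofAdd_toAdd]
      have hqk : q ∣ k := by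
        by_contra hnd
        have hcop : k.Coprime (q ^ r) := Nat.Coprime.pow_right r
          ((Nat.Prime.coprime_iff_not_dvd hq.out).2 hnd).symm
        refine hc₀ ?_
        have hmem : Multiplicative.ofAdd (k : ZMod (q ^ r)) ∈ M.map g := ⟨x, x.2, hgx⟩
        have h1 := Subgroup.zpow_mem _ hmem
          ((c₀.toAdd * ((ZMod.unitOfCoprime k hcop)⁻¹ : (ZMod (q ^ r))ˣ)).val : ℤ)
        rw [zpow_natCast, ← ofAdd_nsmul, nsmul_eq_mul, ZMod.natCast_rightInverse] at h1
        rw [mul_assoc, ← ZMod.coe_unitOfCoprime k hcop, Units.inv_mul, mul_one, ofAdd_toAdd] at h1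
        exact h1
      obtain ⟨k', rfl⟩ := hqk
      ext v
      have hzq : (Units.val ζ) ^ q = 1 := orderOf_dvd_iff_pow_eq_one.1 (dvd_of_eq hζ)
      rw [hgx, baseAct_ofAdd, pow_mul, hzq, one_pow, one_mul]
      rfl
    intro x y
    apply Subtype.ext
    ext
    · simp only [Subgroup.coe_mul, SemidirectProduct.mul_left]
      rw [show (x : Base ζ (q ^ r) hn).right = g x from rfl, hkill,
        show (y : Base ζ (q ^ r) hn).right = g y from rfl, hkill]
      exact congrArg _ (mul_comm _ _)
    · simp only [Subgroup.coe_mul, SemidirectProduct.mul_right]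
      exact congrArg _ (mul_comm _ _)

/-- A group mapping onto the base group has no normal `p`-complement. -/
theorem not_hasNormalPComplement_of_surjective (hpq : p ≠ q) (hζ : orderOf (Units.val ζ) = q)
    {E : Type*} [Group E] [Finite E] (f : E →* Base ζ (q ^ r) hn) (hf : Function.Surjective f) :
    ¬ Cfsg.HasNormalPComplement p E := by
  rintro ⟨P, N, hN, hNP⟩
  set x : Base ζ (q ^ r) hn := SemidirectProduct.inr (Multiplicative.ofAdd 1) with hx
  set v : Base ζ (q ^ r) hn := SemidirectProduct.inl (Multiplicative.ofAdd 1) with hv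
  set N' := N.map f with hN'
  haveI : N'.Normal := hN.map f hf
  have hcard : (Nat.card N').Coprime p := by
    refine Nat.Coprime.coprime_dvd_left (Subgroup.card_map_dvd N f) ?_
    rw [← hNP.index_eq_card]
    exact (hp.out.coprime_iff_not_dvd.2 P.not_dvd_index).symm
  obtain ⟨k, hk⟩ : ∃ k, N'.index = p ^ k := by
    obtain ⟨k, hk⟩ := IsPGroup.iff_card.1 P.isPGroup'
    obtain ⟨i, -, hi⟩ := (Nat.dvd_prime_pow hp.out).1
      ((Subgroup.index_map_dvd N hf).trans (dvd_of_eq (hNP.symm.index_eq_card.trans hk)))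
    exact ⟨i, hi⟩
  have hxq : x ^ (q ^ r) = 1 := by
    rw [hx, ← map_pow, ← ofAdd_nsmul, nsmul_eq_mul, ZMod.natCast_self, zero_mul, ofAdd_zero, map_one]
  have hxN : x ∈ N' := by
    have h1 : (QuotientGroup.mk' N' x) ^ (q ^ r) = 1 := by rw [← map_pow, hxq, map_one]
    have h2 : (QuotientGroup.mk' N' x) ^ (p ^ k) = 1 := by
      rw [← hk, ← map_pow]; exact (QuotientGroup.eq_one_iff _).2 (N'.pow_index_mem x)
    have := pow_gcd_eq_one.2 (show _ ∧ _ from ⟨h1, h2⟩)
    rw [Nat.Coprime.gcd_eq_one (Nat.Coprime.pow _ _ ((Nat.coprime_primes hq.out hp.out).2 hpq.symm)),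
      pow_one] at this
    exact (QuotientGroup.eq_one_iff _).1 this
  set w := x * v * x⁻¹ * v⁻¹ with hw
  have hwN : w ∈ N' := by
    have := N'.mul_mem hxN ((inferInstance : N'.Normal).conj_mem _ (N'.inv_mem hxN) v)
    rw [hw]; simpa only [mul_assoc] using this
  have hwe : w = SemidirectProduct.inl (Multiplicative.ofAdd ((Units.val ζ) - 1)) := by
    rw [hw, hx, hv, inr_conj_inl, ← map_inv, ← map_mul, ← ofAdd_neg, ← ofAdd_add]
    simp [sub_eq_add_neg]
  have hwp : w ^ p = 1 := by
    rw [hwe, ← map_pow, ← ofAdd_nsmul, nsmul_eq_mul, mul_eq_zero_of_left (CharP.cast_eq_zero (GaloisField p (orderOf (p : ZMod q))) p), ofAdd_zero, map_one]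
  have hw1 : w ^ Nat.card N' = 1 := by
    have := congrArg Subtype.val (pow_card_eq_one' (x := (⟨w, hwN⟩ : N')))
    rwa [Subgroup.coe_pow, Subgroup.coe_one] at this
  have := pow_gcd_eq_one.2 (show _ ∧ _ from ⟨hw1, hwp⟩)
  rw [hcard.gcd_eq_one, pow_one, hwe, map_eq_one_iff _ SemidirectProduct.inl_injective,
    ofAdd_eq_one, sub_eq_zero] at this
  rw [this, orderOf_one] at hζ
  exact hq.out.one_lt.ne hζ

/-- A supplement of a central subgroup inside the commutator subgroup is everything. -/
theorem eq_top_of_map_eq_top {E B : Type*} [Group E] [Group B] (f : E →* B)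
    (hc : f.ker ≤ Subgroup.center E) (hD : f.ker ≤ commutator E) (L : Subgroup E)
    (hL : L.map f = ⊤) : L = ⊤ := by
  have hsup : L ⊔ f.ker = ⊤ := by rw [← Subgroup.comap_map_eq, hL, Subgroup.comap_top]
  have hcomm : commutator E ≤ L := by
    have hdec : ∀ x : E, ∃ l ∈ L, ∃ z ∈ f.ker, x = l * z := by
      intro x
      have hx : x ∈ ((L ⊔ f.ker : Subgroup E) : Set E) := by rw [hsup]; trivial
      rw [Subgroup.mul_normal] at hx
      obtain ⟨l, hl, z, hz, rfl⟩ := hx
      exact ⟨l, hl, z, hz, rfl⟩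
    rw [commutator_def, Subgroup.commutator_le]
    intro x _ y _
    obtain ⟨l, hl, z, hz, rfl⟩ := hdec x
    obtain ⟨l', hl', z', hz', rfl⟩ := hdec y
    have hz1 : ∀ g, g * z = z * g := Subgroup.mem_center_iff.1 (hc hz)
    have hz2 : ∀ g, g * z' = z' * g := Subgroup.mem_center_iff.1 (hc hz')
    have e : ⁅l * z, l' * z'⁆ = ⁅l, l'⁆ := by
      calc ⁅l * z, l' * z'⁆ = l * (z * (l' * z')) * z⁻¹ * l⁻¹ * (z'⁻¹ * l'⁻¹) := by
            rw [commutatorElement_def]; group
        _ = l * ((l' * z') * z) * z⁻¹ * l⁻¹ * (z'⁻¹ * l'⁻¹) := by rw [hz1 (l' * z')]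
        _ = l * l' * (z' * l⁻¹) * (z'⁻¹ * l'⁻¹) := by group
        _ = l * l' * (l⁻¹ * z') * (z'⁻¹ * l'⁻¹) := by rw [hz2 l⁻¹]
        _ = ⁅l, l'⁆ := by rw [commutatorElement_def]; group
    rw [e, commutatorElement_def]
    exact L.mul_mem (L.mul_mem (L.mul_mem hl hl') (L.inv_mem hl)) (L.inv_mem hl')
  exact top_le_iff.1 (hsup ▸ sup_le le_rfl (hD.trans hcomm))

/-- Central extensions of the base group are minimal non-`p`-nilpotent. -/
theorem minimal_of_central (hpq : p ≠ q) (hζ : orderOf (Units.val ζ) = q) (hr : 1 ≤ r)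
    {E : Type*} [Group E] [Finite E] (f : E →* Base ζ (q ^ r) hn) (hf : Function.Surjective f)
    (hc : f.ker ≤ Subgroup.center E) (hprop : ∀ L : Subgroup E, L ≠ ⊤ → L.map f ≠ ⊤) :
    ¬ Cfsg.HasNormalPComplement p E ∧
      ∀ L : Subgroup E, L ≠ ⊤ → Cfsg.HasNormalPComplement p L := by
  refine ⟨not_hasNormalPComplement_of_surjective hpq hζ f hf, fun L hL => ?_⟩
  haveI := base_proper_nilpotent hpq hζ hr (L.map f) (hprop L hL)
  haveI : Group.IsNilpotent L := by
    refine Subgroup.isNilpotent_of_ker_le_center (f.subgroupMap L) (fun z hz => ?_)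
    refine Subgroup.mem_center_iff.2 fun w => Subtype.ext ?_
    have hzk : (z : E) ∈ f.ker := congrArg Subtype.val hz
    exact Subgroup.mem_center_iff.1 (hc hzk) w
  exact CfsgLib.NilpotentSubgroups.hasNormalPComplement_of_nilpotent

end Field

end CfsgLib.Universal85
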