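import Mathlib
import Cfsg.Agent.Lib.Universal85.Model

/-!
Alternating forms on `GF(p^a)` invariant under multiplication by a primitive `q`-th root of unity.
-/

set_option autoImplicit false
set_option linter.style.haveILetI false
set_option linter.unusedSectionVars false

namespace CfsgLib.Universal85

variable {p q : ℕ} [hp : Fact p.Prime] [hq : Fact q.Prime] {a : ℕ}

/-- The fixed points of an involutory field automorphism inverting `ζ` form a subfield of square
root order. -/
theorem card_fixed_sq (ha : a = orderOf (p : ZMod q)) (ha0 : a ≠ 0) {ζ : GaloisField p a}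
    (hζ : orderOf ζ = q) (hq2 : q ≠ 2) (σ : GaloisField p a →+* GaloisField p a)
    (_hσσ : ∀ k, σ (σ k) = k) (hσζ : σ ζ = ζ⁻¹) :
    Nat.card (σ.eqLocusField (RingHom.id _)) ^ 2 = p ^ a := by
  set F := σ.eqLocusField (RingHom.id _) with hF
  have hmemF : ∀ k, k ∈ F ↔ σ k = k := fun k => Iff.rfl
  have hζ0 : ζ ≠ 0 := fun h => by
    rw [h, orderOf_zero] at hζ
    exact hq.out.pos.ne hζ
  have hζF : ζ ∉ F := by
    intro h
    rw [hmemF, hσζ] at h
    have h1 : ζ ^ 2 = 1 := by
      rw [pow_two]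
      nth_rw 1 [← h]
      rw [inv_mul_cancel₀ hζ0]
    exact hq2 ((Nat.prime_dvd_prime_iff_eq hq.out Nat.prime_two).1 (hζ ▸ orderOf_dvd_of_pow_eq_one h1))
  set s := ζ + ζ⁻¹ with hs
  have hsF : s ∈ F := by rw [hmemF, hs, map_add, map_inv₀, hσζ, inv_inv, add_comm]
  have hζ2 : ζ * ζ = s * ζ - 1 := by rw [hs, add_mul, inv_mul_cancel₀ hζ0]; ring
  let R : Subring (GaloisField p a) :=
    { carrier := {k | ∃ f g, f ∈ F ∧ g ∈ F ∧ k = f + g * ζ}
      one_mem' := ⟨1, 0, F.one_mem, F.zero_mem, by ring⟩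
      zero_mem' := ⟨0, 0, F.zero_mem, F.zero_mem, by ring⟩
      neg_mem' := by
        rintro _ ⟨f, g, hf, hg, rfl⟩
        exact ⟨-f, -g, F.neg_mem hf, F.neg_mem hg, by ring⟩
      add_mem' := by
        rintro _ _ ⟨f, g, hf, hg, rfl⟩ ⟨f', g', hf', hg', rfl⟩
        exact ⟨f + f', g + g', F.add_mem hf hf', F.add_mem hg hg', by ring⟩
      mul_mem' := by
        rintro _ _ ⟨f, g, hf, hg, rfl⟩ ⟨f', g', hf', hg', rfl⟩
        refine ⟨f * f' - g * g', f * g' + g * f' + g * g' * s,
          F.sub_mem (F.mul_mem hf hf') (F.mul_mem hg hg'),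
          F.add_mem (F.add_mem (F.mul_mem hf hg') (F.mul_mem hg hf'))
            (F.mul_mem (F.mul_mem hg hg') hsF), ?_⟩
        linear_combination (g * g') * hζ2 }
  have hR : R = ⊤ := subring_eq_top ha ha0 hζ R ⟨0, 1, F.zero_mem, F.one_mem, by ring⟩
  let e : F × F → GaloisField p a := fun x => (x.1 : GaloisField p a) + x.2 * ζ
  have he : Function.Bijective e := by
    constructor
    · rintro ⟨⟨f, hf⟩, ⟨g, hg⟩⟩ ⟨⟨f', hf'⟩, ⟨g', hg'⟩⟩ h
      change f + g * ζ = f' + g' * ζ at h
      have hg0 : g = g' := by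
        by_contra hne
        refine hζF ?_
        have : ζ = (f' - f) / (g - g') := by
          rw [eq_div_iff (sub_ne_zero.2 hne)]; linear_combination h
        rw [this]
        exact F.div_mem (F.sub_mem hf' hf) (F.sub_mem hg hg')
      subst hg0
      have : f = f' := add_right_cancel h
      subst this
      rfl
    · intro k
      obtain ⟨f, g, hf, hg, rfl⟩ := (hR ▸ Subring.mem_top k : k ∈ R)
      exact ⟨(⟨f, hf⟩, ⟨g, hg⟩), rfl⟩
  rw [← GaloisField.card p a ha0, ← Nat.card_congr (Equiv.ofBijective e he), Nat.card_prod, pow_two]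

/-- An alternating biadditive map invariant under `ζ` is trivial, or `a` is even and its values lie
in a subgroup of order at most `p^(a/2)`. -/
theorem form_bound (ha : a = orderOf (p : ZMod q)) (ha0 : a ≠ 0) {ζ : GaloisField p a}
    (hζ : orderOf ζ = q) (hq2 : q ≠ 2) {A : Type*} [AddCommGroup A]
    (b : GaloisField p a →+ GaloisField p a →+ A) (halt : ∀ u, b u u = 0)
    (hinv : ∀ u v, b (ζ * u) (ζ * v) = b u v) :
    (∀ u v, b u v = 0) ∨
      (a % 2 = 0 ∧ ∃ W : AddSubgroup A, (∀ u v, b u v ∈ W) ∧ Nat.card W ≤ p ^ (a / 2)) := by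
  classical
  by_cases hb : ∀ u v, b u v = 0
  · exact Or.inl hb
  right
  have hζ0 : ζ ≠ 0 := fun h => by
    rw [h, orderOf_zero] at hζ
    exact hq.out.pos.ne hζ
  -- the adjoint pairs
  let R : Subring ((GaloisField p a) × (GaloisField p a)) :=
    { carrier := {k | ∀ u v, b (k.1 * u) v = b u (k.2 * v)}
      one_mem' := fun u v => by simp
      zero_mem' := fun u v => by simp
      neg_mem' := fun {k} hk u v => by
        show b (-k.1 * u) v = b u (-k.2 * v)
        rw [neg_mul, neg_mul, map_neg, map_neg, AddMonoidHom.neg_apply, hk u v]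
      add_mem' := fun {k l} hk hl u v => by simp [add_mul, hk u v, hl u v]
      mul_mem' := fun {k l} hk hl u v => by
        show b (k.1 * l.1 * u) v = b u (k.2 * l.2 * v)
        rw [mul_assoc, hk, hl, mul_comm k.2 l.2, mul_assoc] }
  have hζR : (ζ, ζ⁻¹) ∈ R := fun u v => by
    show b (ζ * u) v = b u (ζ⁻¹ * v)
    rw [← hinv u (ζ⁻¹ * v), mul_inv_cancel_left₀ hζ0]
  have hinj : ∀ k, (0, k) ∈ R → k = 0 := by
    intro k hk
    by_contra h
    refine hb fun u v => ?_
    have := hk u (k⁻¹ * v)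
    simpa [mul_inv_cancel_left₀ h] using this.symm
  have hfst : ∀ k : (GaloisField p a), ∃ k' : (GaloisField p a), (k, k') ∈ R := by
    intro k
    obtain ⟨⟨x, y⟩, hxy, rfl⟩ := (subring_eq_top ha ha0 hζ (R.map (RingHom.fst (GaloisField p a) (GaloisField p a)))
      ⟨(ζ, ζ⁻¹), hζR, rfl⟩ ▸ Subring.mem_top k : k ∈ R.map (RingHom.fst (GaloisField p a) (GaloisField p a)))
    exact ⟨y, hxy⟩
  choose s hs using hfst
  have huniq : ∀ k k', (k, k') ∈ R → s k = k' := fun k k' h => sub_eq_zero.1 (hinj _ (by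
    have := R.sub_mem (hs k) h
    simpa using this))
  let σ : (GaloisField p a) →+* (GaloisField p a) :=
    { toFun := s
      map_one' := huniq _ _ R.one_mem
      map_zero' := huniq _ _ R.zero_mem
      map_add' := fun k l => huniq _ _ (R.add_mem (hs k) (hs l))
      map_mul' := fun k l => huniq _ _ (R.mul_mem (hs k) (hs l)) }
  have hσζ : σ ζ = ζ⁻¹ := huniq _ _ hζR
  have hσσ : ∀ k, σ (σ k) = k := by
    intro k
    have h := subring_eq_top ha ha0 hζ ((σ.comp σ).eqLocus (RingHom.id (GaloisField p a))) (by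
      show σ (σ ζ) = ζ
      rw [hσζ, map_inv₀, hσζ, inv_inv])
    exact (h ▸ Subring.mem_top k : k ∈ (σ.comp σ).eqLocus (RingHom.id (GaloisField p a)))
  set F := σ.eqLocusField (RingHom.id (GaloisField p a)) with hF
  have hcard := card_fixed_sq ha ha0 hζ hq2 σ hσσ hσζ
  obtain ⟨m, hm, hmF⟩ : ∃ m, a = 2 * m ∧ Nat.card F = p ^ m := by
    obtain ⟨m, -, hm⟩ := (Nat.dvd_prime_pow hp.out).1 (hcard ▸ dvd_pow_self (Nat.card F) two_ne_zero)
    refine ⟨m, ?_, hm⟩
    rw [← hF, hm, ← pow_mul] at hcard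
    have := Nat.pow_right_injective hp.out.two_le hcard
    omega
  set ψ : (GaloisField p a) →+ A := b 1
  have hbψ : ∀ u v, b u v = ψ (σ u * v) := fun u v => by
    have := hs u 1 v
    rwa [mul_one] at this
  have hsq : ∀ f ∈ F, ψ (f * f) = 0 := fun f hf => by
    have := halt f
    rw [hbψ, show σ f = f from hf] at this
    exact this
  have hker : F.toSubring.toAddSubgroup ≤ ψ.ker := by
    intro f hf
    rw [AddMonoidHom.mem_ker]
    by_cases h2 : (2 : (GaloisField p a)) = 0
    · haveI : CharP (GaloisField p a) 2 := CharTwo.of_one_ne_zero_of_two_eq_zero one_ne_zero h2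
      haveI : Fintype F := Fintype.ofFinite F
      have hb' : Function.Injective fun x : F => x * x := by
        intro x y h
        have h' : (x : (GaloisField p a)) * x = (y : (GaloisField p a)) * y := congrArg Subtype.val h
        apply Subtype.ext
        have : ((x : (GaloisField p a)) - y) * ((x : (GaloisField p a)) - y) = 0 := by
          linear_combination h' - ((x : (GaloisField p a)) * y - (y : (GaloisField p a)) * y) * h2
        exact sub_eq_zero.1 (mul_self_eq_zero.1 this)
      obtain ⟨⟨g, hg⟩, hgg⟩ := (Finite.injective_iff_surjective.1 hb') ⟨f, hf⟩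
      have : g * g = f := congrArg Subtype.val hgg
      rw [← this]; exact hsq g hg
    · have h2F : (2 : (GaloisField p a)) ∈ F := by rw [← one_add_one_eq_two]; exact F.add_mem F.one_mem F.one_mem
      have e : f = (f + 1) / 2 * ((f + 1) / 2) - (f - 1) / 2 * ((f - 1) / 2) := by field_simp; ring
      rw [e, map_sub, hsq _ (F.div_mem (F.add_mem hf F.one_mem) h2F),
        hsq _ (F.div_mem (F.sub_mem hf F.one_mem) h2F), sub_zero]
  refine ⟨by omega, ψ.range, fun u v => ⟨σ u * v, (hbψ u v).symm⟩, ?_⟩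
  have h1 : Nat.card ψ.range * Nat.card ψ.ker = p ^ a := by
    rw [← AddSubgroup.index_ker, mul_comm, AddSubgroup.card_mul_index, GaloisField.card p a ha0]
  have h2 : p ^ m ≤ Nat.card ψ.ker := hmF ▸ AddSubgroup.card_le_of_le hker
  have h3 : Nat.card ψ.range * p ^ m ≤ p ^ m * p ^ m := by
    rw [← pow_add, ← two_mul, ← hm, ← h1]
    exact Nat.mul_le_mul_left _ h2
  rw [show a / 2 = m by omega]
  exact Nat.le_of_mul_le_mul_right h3 (pow_pos hp.out.pos m)

end CfsgLib.Universal85
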