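import Mathlib
import Cfsg.Agent.Lib.Universal85.Base
import Cfsg.Agent.Lib.Universal85.Form

/-!
The example of order `p^(3a/2) q^r` for `a` even: a central extension of the base group by the
subfield of order `p^(a/2)`.
-/

set_option autoImplicit false
set_option linter.style.haveILetI false

namespace CfsgLib.Universal85

open scoped commutatorElement

/-- The group of a biadditive map. -/
@[ext] structure Heis {A B : Type*} [AddCommGroup A] [AddCommGroup B] (c : A →+ A →+ B) where
  u : A
  z : B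

namespace Heis

variable {A B : Type*} [AddCommGroup A] [AddCommGroup B] {c : A →+ A →+ B}

instance : One (Heis c) := ⟨⟨0, 0⟩⟩
instance : Mul (Heis c) := ⟨fun x y => ⟨x.u + y.u, x.z + y.z + c x.u y.u⟩⟩
instance : Inv (Heis c) := ⟨fun x => ⟨-x.u, -x.z + c x.u x.u⟩⟩

@[simp] theorem one_u : (1 : Heis c).u = 0 := rfl
@[simp] theorem one_z : (1 : Heis c).z = 0 := rfl
@[simp] theorem mul_u (x y : Heis c) : (x * y).u = x.u + y.u := rfl
@[simp] theorem mul_z (x y : Heis c) : (x * y).z = x.z + y.z + c x.u y.u := rfl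
@[simp] theorem inv_u (x : Heis c) : x⁻¹.u = -x.u := rfl
@[simp] theorem inv_z (x : Heis c) : x⁻¹.z = -x.z + c x.u x.u := rfl

instance : Group (Heis c) where
  mul_assoc x y w := by
    ext
    · simp [add_assoc]
    · simp only [mul_z, mul_u, map_add, AddMonoidHom.add_apply]; abel
  one_mul x := by ext <;> simp
  mul_one x := by ext <;> simp
  inv_mul_cancel x := by
    ext
    · simp
    · simp only [mul_z, inv_z, inv_u, map_neg, AddMonoidHom.neg_apply, one_z]; abel

/-- As a set, the product. -/
def equivProd (c : A →+ A →+ B) : Heis c ≃ A × B where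
  toFun x := (x.u, x.z)
  invFun x := ⟨x.1, x.2⟩
  left_inv _ := rfl
  right_inv _ := rfl

/-- The projection. -/
def fstHom (c : A →+ A →+ B) : Heis c →* Multiplicative A where
  toFun x := Multiplicative.ofAdd x.u
  map_one' := rfl
  map_mul' _ _ := rfl

/-- The automorphism induced by an isometry. -/
def aut (e : A ≃+ A) (he : ∀ u v, c (e u) (e v) = c u v) : MulAut (Heis c) where
  toFun x := ⟨e x.u, x.z⟩
  invFun x := ⟨e.symm x.u, x.z⟩
  left_inv x := by ext <;> simp
  right_inv x := by ext <;> simp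
  map_mul' x y := by ext <;> simp [he]

theorem commutator_eq (x y : Heis c) : ⁅x, y⁆ = ⟨0, c x.u y.u - c y.u x.u⟩ := by
  rw [commutatorElement_def]
  ext
  · simp only [mul_u, inv_u]; abel
  · simp only [mul_z, mul_u, inv_z, inv_u, map_add, map_neg, AddMonoidHom.add_apply,
      AddMonoidHom.neg_apply]
    abel

end Heis

variable {p q r : ℕ} [hp : Fact p.Prime] [hq : Fact q.Prime]

/-- For even `a` there is a central extension of the base group of order `p^(3a/2) q^r` with
kernel inside the derived subgroup. -/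
theorem exists_heisenberg (hpq : p ≠ q) (heven : orderOf (p : ZMod q) % 2 = 0)
    {ζ : (GaloisField p (orderOf (p : ZMod q)))ˣ} {hn : ζ ^ (q ^ r) = 1}
    (hζ : orderOf (Units.val ζ) = q) :
    ∃ (E : Type) (_ : Group E) (_ : Finite E) (f : E →* Base ζ (q ^ r) hn),
      Function.Surjective f ∧ f.ker ≤ Subgroup.center E ∧ f.ker ≤ commutator E ∧
      Nat.card E = p ^ (3 * orderOf (p : ZMod q) / 2) * q ^ r := by
  classical
  have ha0 := (orderOf_pos' (p := p) (q := q) hpq).ne'
  obtain ⟨m, hm⟩ : ∃ m, orderOf (p : ZMod q) = 2 * m := ⟨orderOf (p : ZMod q) / 2, by omega⟩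
  have hq2 : q ≠ 2 := by
    rintro rfl
    have hp1 : (p : ZMod 2) = 1 := by
      rw [ZMod.natCast_eq_one_iff_odd]
      exact hp.out.odd_of_ne_two hpq
    rw [hp1, orderOf_one] at heven
    omega
  set K := GaloisField p (orderOf (p : ZMod q)) with hK
  let σ : K →+* K := iterateFrobenius K p m
  have hσ : ∀ k : K, σ k = k ^ (p ^ m) := fun k => iterateFrobenius_def ..
  haveI : Fintype K := Fintype.ofFinite K
  have hσσ : ∀ k, σ (σ k) = k := fun k => by
    rw [hσ, hσ, ← pow_mul, ← pow_add, ← two_mul, ← hm, ← GaloisField.card p _ ha0,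
      Nat.card_eq_fintype_card, FiniteField.pow_card]
  have hζ0 : (Units.val ζ : K) ≠ 0 := ζ.ne_zero
  have hσζ : σ (Units.val ζ) = (Units.val ζ)⁻¹ := by
    have hneg : ((p ^ m : ℕ) : ZMod q) = -1 := by
      rw [Nat.cast_pow]
      have h2 : ((p : ZMod q) ^ m) ^ 2 = 1 := by
        rw [← pow_mul, mul_comm, ← hm, pow_orderOf_eq_one]
      rcases sq_eq_one_iff.1 h2 with h | h
      · exfalso
        have := orderOf_le_of_pow_eq_one (by omega) h
        omega
      · exact h
    have hdvd : q ∣ p ^ m + 1 := by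
      rw [← ZMod.natCast_eq_zero_iff, Nat.cast_add, hneg, Nat.cast_one, neg_add_cancel]
    have h1 : (Units.val ζ : K) ^ (p ^ m + 1) = 1 := orderOf_dvd_iff_pow_eq_one.1 (hζ.symm ▸ hdvd)
    rw [hσ]
    exact eq_inv_of_mul_eq_one_left (by rwa [← pow_succ])
  set F := σ.eqLocusField (RingHom.id K) with hF
  have hFcard : Nat.card F = p ^ m := by
    have h : Nat.card F ^ 2 = (p ^ m) ^ 2 := by
      rw [← pow_mul, mul_comm, ← hm]
      exact card_fixed_sq rfl ha0 hζ hq2 σ hσσ hσζ
    exact Nat.pow_left_injective two_ne_zero h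
  obtain ⟨δ, hδ⟩ : ∃ δ : K, σ δ ≠ δ := by
    refine ⟨Units.val ζ, fun h => hq2 ?_⟩
    rw [hσζ] at h
    have h1 : (Units.val ζ : K) ^ 2 = 1 := by
      rw [pow_two]
      nth_rw 1 [← h]
      rw [inv_mul_cancel₀ hζ0]
    exact (Nat.prime_dvd_prime_iff_eq hq.out Nat.prime_two).1 (hζ ▸ orderOf_dvd_of_pow_eq_one h1)
  let L : AddSubgroup K := F.toSubring.toAddSubgroup
  have hT : ∀ k : K, k + σ k ∈ L := fun k => by
    show σ (k + σ k) = k + σ k
    rw [map_add, hσσ, add_comm]
  let c : K →+ K →+ L :=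
    AddMonoidHom.mk' (fun u => AddMonoidHom.mk'
      (fun v => ⟨δ * u * σ v + σ (δ * u * σ v), hT _⟩)
      (fun v v' => Subtype.ext (by simp only [map_add, mul_add, AddSubgroup.coe_add]; abel)))
      (fun u u' => AddMonoidHom.ext fun v => Subtype.ext (by
        simp only [AddMonoidHom.mk'_apply, AddMonoidHom.add_apply, map_add, mul_add, add_mul,
          AddSubgroup.coe_add]; abel))
  have hcomm : ∀ u v : K, ((c u v - c v u : L) : K) = (δ - σ δ) * (u * σ v - σ u * v) := fun u v => by
    show δ * u * σ v + σ (δ * u * σ v) - (δ * v * σ u + σ (δ * v * σ u)) = _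
    simp only [map_mul, hσσ]
    ring
  have hcinv : ∀ u v : K, c (Units.val ζ * u) (Units.val ζ * v) = c u v := fun u v => Subtype.ext (by
    show δ * (Units.val ζ * u) * σ (Units.val ζ * v) + σ (δ * (Units.val ζ * u) * σ (Units.val ζ * v)) =
      δ * u * σ v + σ (δ * u * σ v)
    have e : δ * (Units.val ζ * u) * σ (Units.val ζ * v) = δ * u * σ v := by
      rw [map_mul, hσζ]
      calc δ * (Units.val ζ * u) * ((Units.val ζ)⁻¹ * σ v)
          = δ * u * σ v * (Units.val ζ * (Units.val ζ)⁻¹) := by ring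
        _ = δ * u * σ v := by rw [mul_inv_cancel₀ hζ0, mul_one]
    rw [e])
  let θe : K ≃+ K :=
    { toFun := fun x => Units.val ζ * x
      invFun := fun x => Units.val ζ⁻¹ * x
      left_inv := fun x => by simp [← mul_assoc]
      right_inv := fun x => by simp [← mul_assoc]
      map_add' := fun x y => mul_add _ x y }
  let θ : MulAut (Heis c) := Heis.aut θe hcinv
  have hθ : ∀ (k : ℕ) (x : Heis c), (θ ^ k) x = ⟨Units.val ζ ^ k * x.u, x.z⟩ := by
    intro k
    induction k with
    | zero => intro x; simp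
    | succ k ih =>
      intro x
      rw [pow_succ', MulAut.mul_apply, ih]
      show (⟨Units.val ζ * (Units.val ζ ^ k * x.u), x.z⟩ : Heis c) = _
      rw [pow_succ', mul_assoc]
  have hθn : θ ^ (q ^ r) = 1 := by
    refine MulEquiv.ext fun x => ?_
    rw [hθ, MulAut.one_apply, ← Units.val_pow_eq_pow_val, hn, Units.val_one, one_mul]
  haveI : NeZero (q ^ r) := ⟨pow_ne_zero _ hq.out.ne_zero⟩
  let act := powHom θ (q ^ r) hθn
  have hnat : ∀ d : Multiplicative (ZMod (q ^ r)), ∃ k : ℕ, Multiplicative.ofAdd (k : ZMod (q ^ r)) = d :=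
    fun d => ⟨d.toAdd.val, by rw [ZMod.natCast_rightInverse, ofAdd_toAdd]⟩
  have hcompat : ∀ d, (Heis.fstHom c).comp (act d).toMonoidHom =
      (baseAct ζ (q ^ r) hn ((MonoidHom.id _) d)).toMonoidHom.comp (Heis.fstHom c) := by
    intro d
    obtain ⟨k, rfl⟩ := hnat d
    refine MonoidHom.ext fun x => ?_
    show Heis.fstHom c (powHom θ (q ^ r) hθn _ x) = baseAct ζ (q ^ r) hn _ (Heis.fstHom c x)
    rw [powHom_ofAdd, MonoidHom.id_apply, baseAct_ofAdd, hθ]
    rfl
  haveI : Finite (Heis c) := Finite.of_equiv _ (Heis.equivProd c).symm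
  refine ⟨Heis c ⋊[act] Multiplicative (ZMod (q ^ r)), inferInstance,
    Finite.of_equiv _ SemidirectProduct.equivProd.symm,
    SemidirectProduct.map (Heis.fstHom c) (MonoidHom.id _) hcompat, ?_, ?_, ?_, ?_⟩
  · intro b
    exact ⟨⟨⟨b.left.toAdd, 0⟩, b.right⟩, rfl⟩
  · intro w hw
    have hr0 : w.right = 1 := congrArg SemidirectProduct.right hw
    have hl0 : w.left.u = 0 := congrArg (fun b : Base ζ (q ^ r) hn => Multiplicative.toAdd b.left) hw
    refine Subgroup.mem_center_iff.2 fun y => ?_
    obtain ⟨k, hk⟩ := hnat y.right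
    refine SemidirectProduct.ext ?_ ?_
    · rw [SemidirectProduct.mul_left, SemidirectProduct.mul_left, hr0, map_one, MulAut.one_apply,
        ← hk]
      show y.left * powHom θ (q ^ r) hθn _ w.left = _
      rw [powHom_ofAdd, hθ, hl0, mul_zero]
      ext
      · simp [hl0]
      · simp [hl0, add_comm]
    · rw [SemidirectProduct.mul_right, SemidirectProduct.mul_right, hr0, mul_one, one_mul]
  · intro w hw
    have hr0 : w.right = 1 := congrArg SemidirectProduct.right hw
    have hl0 : w.left.u = 0 := congrArg (fun b : Base ζ (q ^ r) hn => Multiplicative.toAdd b.left) hw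
    have hDne : δ - σ δ ≠ 0 := sub_ne_zero.2 (Ne.symm hδ)
    -- `v ↦ c 1 v - c v 1` is onto
    let g : K →+ L := AddMonoidHom.mk' (fun v => c 1 v - c v 1) fun v v' => by
      rw [map_add (c 1), map_add c, AddMonoidHom.add_apply]; abel
    have hgker : g.ker ≤ L := by
      intro v hv
      have h1 := hcomm 1 v
      rw [show c 1 v - c v 1 = 0 from hv, map_one, one_mul, one_mul] at h1
      exact sub_eq_zero.1 ((mul_eq_zero.1 h1.symm).resolve_left hDne)
    have hgtop : g.range = ⊤ := by
      refine AddSubgroup.eq_top_of_card_eq _ (le_antisymm (Nat.card_le_card_of_injective _ Subtype.val_injective) ?_)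
      have h1 : Nat.card g.range * Nat.card g.ker = p ^ m * p ^ m := by
        rw [← AddSubgroup.index_ker, mul_comm, AddSubgroup.card_mul_index,
          GaloisField.card p _ ha0, ← pow_add, ← two_mul, ← hm]
      have h2 : Nat.card g.ker ≤ p ^ m := hFcard ▸ AddSubgroup.card_le_of_le hgker
      have h3 : Nat.card L = p ^ m := hFcard
      rw [h3]
      refine Nat.le_of_mul_le_mul_right ?_ (pow_pos hp.out.pos m)
      rw [← h1]
      exact Nat.mul_le_mul_left _ h2
    obtain ⟨v, hv⟩ : w.left.z ∈ g.range := hgtop ▸ AddSubgroup.mem_top _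
    have hw' : w = ⁅(SemidirectProduct.inl ⟨1, 0⟩ : Heis c ⋊[act] Multiplicative (ZMod (q ^ r))),
        SemidirectProduct.inl ⟨v, 0⟩⁆ := by
      rw [← map_commutatorElement, Heis.commutator_eq]
      refine SemidirectProduct.ext ?_ ?_
      · rw [SemidirectProduct.left_inl]
        ext
        · rw [hl0]
        · rw [← hv]; rfl
      · rw [SemidirectProduct.right_inl, hr0]
    rw [hw']
    exact Subgroup.commutator_mem_commutator (Subgroup.mem_top _) (Subgroup.mem_top _)
  · rw [Nat.card_congr SemidirectProduct.equivProd, Nat.card_prod, Nat.card_congr (Heis.equivProd c),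
      Nat.card_prod, Nat.card_congr Multiplicative.toAdd, Nat.card_zmod, GaloisField.card p _ ha0,
      show Nat.card L = p ^ m from hFcard, ← pow_add]
    congr 2
    omega

end CfsgLib.Universal85
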