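import Mathlib
import Cfsg.Agent.Lib.PLength85.SchmidtSylow
import Cfsg.Agent.Lib.Universal85.Base
import Cfsg.Agent.Lib.Universal85.Form
import Cfsg.Agent.Lib.Solvable.MinimalNonNilpotent
import Cfsg.Agent.S0132

/-!
Every minimal non-`p`-nilpotent group of order `p^t q^r` maps onto the base group with central
kernel, and `t` is bounded.
-/

set_option autoImplicit false
set_option linter.style.haveILetI false
set_option linter.unusedSectionVars false

namespace CfsgLib.Universal85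

open CfsgLib.PLength85
open scoped commutatorElement

variable {p q : ℕ} [hp : Fact p.Prime] [hq : Fact q.Prime]

theorem exists_model_addHom_aux {a : ℕ} (ha : a = orderOf (p : ZMod q)) (ha0 : a ≠ 0)
    {ζ : GaloisField p a} (hζ : orderOf ζ = q) {V : Type*} [AddCommGroup V] [Module (ZMod p) V]
    [Finite V] (T : V →+ V) (hTq : ∀ v, T^[q] v = v) (hT1 : ∃ v, T v ≠ v)
    (hirr : ∀ W : AddSubgroup V, (∀ w ∈ W, T w ∈ W) → W = ⊥ ∨ W = ⊤) :
    ∃ (j : ℕ) (φ : GaloisField p a →+ V), j.Coprime q ∧ Function.Bijective φ ∧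
      ∀ k, φ (ζ * k) = T^[j] (φ k) := by
  have hT' : ∀ (n : ℕ) (v : V), ((T.toZModLinearMap p : Module.End (ZMod p) V) ^ n) v = T^[n] v :=
    fun n v => by rw [Module.End.coe_pow]; rfl
  obtain ⟨j, φ, hj, hφ, h⟩ := exists_field_model ha ha0 hζ (T.toZModLinearMap p)
    (LinearMap.ext fun v => (hT' q v).trans (hTq v))
    (fun h => by
      obtain ⟨v, hv⟩ := hT1
      exact hv (LinearMap.congr_fun h v)) hirr
  exact ⟨j, φ, hj, hφ, fun k => (h k).trans (hT' j (φ k))⟩

theorem exists_model_addHom {a : ℕ} (ha : a = orderOf (p : ZMod q)) (ha0 : a ≠ 0)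
    {ζ : GaloisField p a} (hζ : orderOf ζ = q) {V : Type*} [AddCommGroup V] [Finite V]
    (hpV : ∀ v : V, p • v = 0) (T : V →+ V) (hTq : ∀ v, T^[q] v = v) (hT1 : ∃ v, T v ≠ v)
    (hirr : ∀ W : AddSubgroup V, (∀ w ∈ W, T w ∈ W) → W = ⊥ ∨ W = ⊤) :
    ∃ (j : ℕ) (φ : GaloisField p a →+ V), j.Coprime q ∧ Function.Bijective φ ∧
      ∀ k, φ (ζ * k) = T^[j] (φ k) :=
  letI := AddCommGroup.zmodModule hpV
  exists_model_addHom_aux ha ha0 hζ T hTq hT1 hirr

section Sylow

variable {S : Type*} [Group S] [Finite S] (D : SchmidtAut p S) (hS : IsPGroup p S)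

include hS in
theorem commutator_mem_frattini (x y : S) : ⁅x, y⁆ ∈ frattini S :=
  CfsgLib.PGroup.commutator_le_frattini hS
    (Subgroup.commutator_mem_commutator (Subgroup.mem_top x) (Subgroup.mem_top y))

include D hS

theorem closure_moved_eq_top : Subgroup.closure (Set.range fun g : S => g⁻¹ * D.α g) = ⊤ := by
  by_contra h
  have hle := D.le_frattini_of_invariant hS h fun y hy => D.map_closure_le (by
    rintro _ ⟨g, rfl⟩
    refine Subgroup.subset_closure ⟨D.α g, ?_⟩
    simp [map_mul, map_inv]) hy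
  refine D.frattini_ne_top hS (top_le_iff.1 fun g _ => D.mem_frattini_of_move hS ?_)
  have := (inferInstance : (frattini S).Normal).conj_mem _
    (hle (Subgroup.subset_closure ⟨g, rfl⟩)) g
  simpa [mul_assoc] using this

theorem frattini_eq_commutator : frattini S = commutator S := by
  refine le_antisymm (CfsgLib.PGroup.frattini_le_of (p := p) _ le_rfl fun x => ?_)
    (CfsgLib.PGroup.commutator_le_frattini hS)
  let h : S →* Abelianization S := (powMonoidHom p).comp Abelianization.of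
  have hh : Subgroup.closure (Set.range fun g : S => g⁻¹ * D.α g) ≤ h.ker := by
    rw [Subgroup.closure_le]
    rintro _ ⟨g, rfl⟩
    show (Abelianization.of (g⁻¹ * D.α g)) ^ p = 1
    rw [map_mul, map_inv, mul_pow, inv_pow, ← map_pow, ← map_pow, ← map_pow,
      D.fix_frattini hS (CfsgLib.PGroup.pow_mem_frattini hS g), inv_mul_cancel]
  have hx : h x = 1 := hh ((closure_moved_eq_top D hS).ge (Subgroup.mem_top x))
  rw [← Abelianization.ker_of S, MonoidHom.mem_ker, map_pow]
  exact hx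

theorem pow_alpha_fix {x : S} (hx : x ∈ frattini S) : ∀ n : ℕ, (D.α ^ n) x = x
  | 0 => rfl
  | n + 1 => by rw [pow_succ, MulAut.mul_apply, D.fix_frattini hS hx, pow_alpha_fix hx n]

/-- The quotient by the Frattini subgroup is the field model. -/
theorem exists_frattini_model (hDq : D.q = q) {a : ℕ} (ha : a = orderOf (p : ZMod q)) (ha0 : a ≠ 0)
    {ζ : GaloisField p a} (hζ : orderOf ζ = q) :
    ∃ (j : ℕ) (φ : S →* Multiplicative (GaloisField p a)), j.Coprime q ∧ Function.Surjective φ ∧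
      φ.ker = frattini S ∧
      ∀ s, φ ((D.α ^ j) s) = Multiplicative.ofAdd (ζ * (φ s).toAdd) := by
  classical
  set Φ := frattini S with hΦ
  letI : CommGroup (S ⧸ Φ) :=
    { mul_comm := fun u v => by
        obtain ⟨x, rfl⟩ := QuotientGroup.mk_surjective u
        obtain ⟨y, rfl⟩ := QuotientGroup.mk_surjective v
        rw [← commutatorElement_eq_one_iff_mul_comm]
        exact (QuotientGroup.eq_one_iff ⁅x, y⁆).2 (commutator_mem_frattini hS x y) }
  haveI : Finite (Additive (S ⧸ Φ)) := inferInstanceAs (Finite (S ⧸ Φ))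
  have hV : ∀ u : Additive (S ⧸ Φ), ∃ x : S, u = Additive.ofMul (x : S ⧸ Φ) := fun u => by
    obtain ⟨x, hx⟩ := QuotientGroup.mk_surjective u.toMul
    exact ⟨x, congrArg Additive.ofMul hx.symm⟩
  have hpV : ∀ u : Additive (S ⧸ Φ), p • u = 0 := fun u => by
    obtain ⟨x, rfl⟩ := hV u
    exact congrArg Additive.ofMul
      ((QuotientGroup.eq_one_iff (x ^ p)).2 (CfsgLib.PGroup.pow_mem_frattini hS x))
  let e : S ⧸ Φ →* S ⧸ Φ := QuotientGroup.map Φ Φ D.α.toMonoidHom fun x hx => D.map_frattini hx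
  let T : Additive (S ⧸ Φ) →+ Additive (S ⧸ Φ) := MonoidHom.toAdditive e
  have hT : ∀ (n : ℕ) (x : S), T^[n] (Additive.ofMul (x : S ⧸ Φ)) =
      Additive.ofMul (((D.α ^ n) x : S) : S ⧸ Φ) := by
    intro n
    induction n with
    | zero => intro x; rfl
    | succ n ih => intro x; rw [Function.iterate_succ_apply', ih, pow_succ', MulAut.mul_apply]; rfl
  have hTq : ∀ u, T^[q] u = u := by
    intro u
    obtain ⟨x, rfl⟩ := hV u
    rw [hT, ← hDq, D.pow_eq]
    rfl
  have hT1 : ∃ u, T u ≠ u := by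
    by_contra! h
    refine D.frattini_ne_top hS (top_le_iff.1 fun x _ => D.mem_frattini_of_move hS ?_)
    have h2 : ((D.α x : S) : S ⧸ Φ) = (x : S ⧸ Φ) := congrArg Additive.toMul (h (Additive.ofMul (x : S ⧸ Φ)))
    rw [eq_comm, QuotientGroup.eq] at h2
    have := (inferInstance : Φ.Normal).conj_mem _ h2 x
    simpa [mul_assoc] using this
  have hirr : ∀ W : AddSubgroup (Additive (S ⧸ Φ)), (∀ w ∈ W, T w ∈ W) → W = ⊥ ∨ W = ⊤ := by
    intro W hW
    let L : Subgroup S := (AddSubgroup.toSubgroup' W).comap (QuotientGroup.mk' Φ)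
    by_cases hL : L = ⊤
    · right
      refine top_le_iff.1 fun u _ => ?_
      obtain ⟨x, rfl⟩ := hV u
      exact (hL ▸ Subgroup.mem_top x : x ∈ L)
    · left
      have hle := D.le_frattini_of_invariant hS hL (fun x hx => (hW _ hx :))
      rw [AddSubgroup.eq_bot_iff_forall]
      intro u hu
      obtain ⟨x, rfl⟩ := hV u
      exact congrArg Additive.ofMul ((QuotientGroup.eq_one_iff x).2 (hle (show x ∈ L from hu)))
  obtain ⟨j, φ, hj, hφ, hφT⟩ := exists_model_addHom ha ha0 hζ hpV T hTq hT1 hirr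
  let E := AddEquiv.ofBijective φ hφ
  refine ⟨j, (AddMonoidHom.toMultiplicativeRight E.symm.toAddMonoidHom).comp (QuotientGroup.mk' Φ),
    hj, ?_, ?_, ?_⟩
  · intro k
    obtain ⟨x, hx⟩ := QuotientGroup.mk_surjective (E k.toAdd).toMul
    refine ⟨x, ?_⟩
    show Multiplicative.ofAdd (E.symm (Additive.ofMul (x : S ⧸ Φ))) = k
    rw [hx, ofMul_toMul, AddEquiv.symm_apply_apply, ofAdd_toAdd]
  · ext x
    show Multiplicative.ofAdd (E.symm (Additive.ofMul (x : S ⧸ Φ))) = 1 ↔ x ∈ Φ
    rw [ofAdd_eq_one, AddEquiv.map_eq_zero_iff, ofMul_eq_zero, QuotientGroup.eq_one_iff]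
  · intro s
    show Multiplicative.ofAdd (E.symm (Additive.ofMul (((D.α ^ j) s : S) : S ⧸ Φ))) =
      Multiplicative.ofAdd (ζ * E.symm (Additive.ofMul (s : S ⧸ Φ)))
    refine congrArg Multiplicative.ofAdd ?_
    rw [← hT, AddEquiv.symm_apply_eq]
    show T^[j] (Additive.ofMul (s : S ⧸ Φ)) = φ (ζ * E.symm (Additive.ofMul (s : S ⧸ Φ)))
    rw [hφT]
    exact congrArg (T^[j]) (E.apply_symm_apply _).symm

/-- The order bound. -/
theorem card_le (hDq : D.q = q) {a : ℕ} (ha : a = orderOf (p : ZMod q)) (ha0 : a ≠ 0)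
    {ζ : GaloisField p a} (hζ : orderOf ζ = q) :
    Nat.card S ≤ p ^ (if a % 2 = 1 then a else 3 * a / 2) := by
  classical
  obtain ⟨j, φ, hj, hφ, hker, hφα⟩ := exists_frattini_model D hS hDq ha ha0 hζ
  have hcardS : Nat.card S = Nat.card (frattini S) * p ^ a := by
    rw [← hker, ← Subgroup.card_mul_index φ.ker, Subgroup.index_ker,
      MonoidHom.range_eq_top.2 hφ, Subgroup.card_top, Nat.card_congr Multiplicative.toAdd,
      GaloisField.card p a ha0]
  have habel : commutator S = ⊥ → Nat.card S ≤ p ^ (if a % 2 = 1 then a else 3 * a / 2) := by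
    intro h
    rw [hcardS, frattini_eq_commutator D hS, h, Subgroup.card_bot, one_mul]
    exact Nat.pow_le_pow_right hp.out.pos (by split <;> omega)
  by_cases hna : Subgroup.center S = ⊤
  · refine habel ?_
    rw [commutator_def, Subgroup.commutator_eq_bot_iff_le_centralizer, Subgroup.coe_top,
      Subgroup.centralizer_univ, hna]
  have hq2 : q ≠ 2 := hDq ▸ D.q_ne_two hS hna
  set Φ := frattini S with hΦ
  letI : CommGroup Φ :=
    { mul_comm := fun x y => Subtype.ext
        (Subgroup.mem_center_iff.1 (D.frattini_le_center hS y.2) x) }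
  let c : S → S → Additive Φ := fun s t =>
    Additive.ofMul ⟨⁅s, t⁆, commutator_mem_frattini hS s t⟩
  have hmulr : ∀ s t t' : S, c s (t * t') = c s t + c s t' := fun s t t' => by
    apply Additive.toMul.injective
    apply Subtype.ext
    show ⁅s, t * t'⁆ = ⁅s, t⁆ * ⁅s, t'⁆
    have h := Subgroup.mem_center_iff.1 (D.commutator_mem_center hS s t') t
    calc ⁅s, t * t'⁆ = ⁅s, t⁆ * (t * ⁅s, t'⁆ * t⁻¹) := by simp [commutatorElement_def, mul_assoc]
      _ = ⁅s, t⁆ * ⁅s, t'⁆ := by rw [h, mul_inv_cancel_right]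
  have hanti : ∀ s t : S, c s t = - c t s := fun s t => by
    apply Additive.toMul.injective
    apply Subtype.ext
    show ⁅s, t⁆ = ⁅t, s⁆⁻¹
    rw [commutatorElement_inv]
  have hmull : ∀ s s' t : S, c (s * s') t = c s t + c s' t := fun s s' t => by
    rw [hanti, hmulr, hanti s t, hanti s' t, neg_add]
  have hzero : ∀ s, ∀ z ∈ Φ, c s z = 0 := fun s z hz => by
    apply Additive.toMul.injective
    apply Subtype.ext
    exact commutatorElement_eq_one_iff_mul_comm.2
      (Subgroup.mem_center_iff.1 (D.frattini_le_center hS hz) s)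
  let ℓ : GaloisField p a → S := fun u => Function.surjInv hφ (Multiplicative.ofAdd u)
  have hℓ : ∀ u, φ (ℓ u) = Multiplicative.ofAdd u := fun u => Function.surjInv_eq hφ _
  have hwd : ∀ s t : S, c (ℓ (φ s).toAdd) (ℓ (φ t).toAdd) = c s t := by
    have h1 : ∀ s t : S, c t (ℓ (φ s).toAdd) = c t s := by
      intro s t
      have hmem : s⁻¹ * ℓ (φ s).toAdd ∈ Φ := by
        rw [← hker, MonoidHom.mem_ker, map_mul, map_inv, hℓ, ofAdd_toAdd, inv_mul_cancel]
      have := hmulr t s (s⁻¹ * ℓ (φ s).toAdd)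
      rwa [mul_inv_cancel_left, hzero t _ hmem, add_zero] at this
    intro s t
    rw [h1, hanti, h1, ← hanti]
  let b : GaloisField p a →+ GaloisField p a →+ Additive Φ :=
    AddMonoidHom.mk' (fun u => AddMonoidHom.mk' (fun v => c (ℓ u) (ℓ v)) fun v v' => by
      rw [← hmulr, ← hwd (ℓ u) (ℓ v * ℓ v')]
      simp only [map_mul, hℓ, ← ofAdd_add, toAdd_ofAdd]) fun u u' => by
      refine AddMonoidHom.ext fun v => ?_
      show c (ℓ (u + u')) (ℓ v) = c (ℓ u) (ℓ v) + c (ℓ u') (ℓ v)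
      rw [← hmull, ← hwd (ℓ u * ℓ u') (ℓ v)]
      simp only [map_mul, hℓ, ← ofAdd_add, toAdd_ofAdd]
  have hb : ∀ s t, c s t = b (φ s).toAdd (φ t).toAdd := fun s t => (hwd s t).symm
  have halt : ∀ u, b u u = 0 := fun u => by
    apply Additive.toMul.injective
    apply Subtype.ext
    exact commutatorElement_self (ℓ u)
  have hinv : ∀ u v, b (ζ * u) (ζ * v) = b u v := fun u v => by
    have h1 : ∀ w, ζ * w = (φ ((D.α ^ j) (ℓ w))).toAdd := fun w => by
      rw [hφα, hℓ, toAdd_ofAdd, toAdd_ofAdd]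
    rw [h1 u, h1 v, ← hb]
    apply Additive.toMul.injective
    apply Subtype.ext
    show ⁅(D.α ^ j) (ℓ u), (D.α ^ j) (ℓ v)⁆ = ⁅ℓ u, ℓ v⁆
    rw [← map_commutatorElement]
    exact pow_alpha_fix D hS (commutator_mem_frattini hS _ _) j
  rcases form_bound ha ha0 hζ hq2 b halt hinv with h | ⟨heven, W, hW, hWcard⟩
  · refine habel ?_
    rw [commutator_def, eq_bot_iff, Subgroup.commutator_le]
    intro s _ t _
    have h1 := hb s t
    rw [h] at h1
    exact congrArg (fun z : Additive Φ => ((z.toMul : Φ) : S)) h1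
  · let W' : Subgroup Φ := AddSubgroup.toSubgroup' W
    have hle : Φ ≤ W'.map Φ.subtype := by
      refine (frattini_eq_commutator D hS).le.trans ?_
      rw [commutator_def, Subgroup.commutator_le]
      intro s _ t _
      exact ⟨⟨⁅s, t⁆, commutator_mem_frattini hS s t⟩, (hb s t ▸ hW _ _ : c s t ∈ W), rfl⟩
    have h1 : Nat.card Φ ≤ p ^ (a / 2) := by
      refine le_trans (Subgroup.card_le_of_le hle) ?_
      rw [Subgroup.card_map_of_injective Φ.subtype_injective]
      exact le_trans (le_of_eq (Nat.card_congr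
        { toFun := fun z => ⟨Additive.ofMul z.1, z.2⟩, invFun := fun z => ⟨Additive.toMul z.1, z.2⟩,
          left_inv := fun z => rfl, right_inv := fun z => rfl })) hWcard
    rw [hcardS, if_neg (by omega), show 3 * a / 2 = a / 2 + a by omega, pow_add]
    exact Nat.mul_le_mul_right _ h1

end Sylow

/-- The normal Sylow subgroup and a generator of a complement in a minimal non-`p`-nilpotent
group. -/
theorem exists_generator {X : Type*} [Group X] [Finite X] {r : ℕ} (hpq : p ≠ q) (hr : 1 ≤ r)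
    (h1 : ¬ Cfsg.HasNormalPComplement p X)
    (h2 : ∀ H : Subgroup X, H ≠ ⊤ → Cfsg.HasNormalPComplement p H)
    {t : ℕ} (hcard : Nat.card X = p ^ t * q ^ r) :
    ∃ (P : Subgroup X) (_ : P.Normal) (x : X) (D : SchmidtAut p ↥P), IsPGroup p P ∧
      Nat.card P = p ^ t ∧ orderOf x = q ^ r ∧ D.q = q ∧ D.α = MulAut.conjNormal x ∧
      ∀ z ∈ P, x ^ q * z = z * x ^ q := by
  classical
  obtain ⟨hsub, hnn, hPn⟩ := Cfsg.Agent.S0132.result h1 h2
  have hX : Cfsg.IsMinimalNonNilpotent X := ⟨hnn, hsub⟩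
  obtain ⟨P⟩ := (inferInstance : Nonempty (Sylow p X))
  haveI hPn := hPn P
  have hPcard : Nat.card (P : Subgroup X) = p ^ t := by
    obtain ⟨i, hi⟩ := IsPGroup.iff_card.1 P.isPGroup'
    rw [hi]
    have hmul := Subgroup.card_mul_index (P : Subgroup X)
    rw [hi, hcard] at hmul
    refine Nat.dvd_antisymm ?_ ?_
    · exact (Nat.Coprime.pow _ _ ((Nat.coprime_primes hp.out hq.out).2 hpq)).dvd_of_dvd_mul_right
        (Dvd.intro _ hmul)
    · exact (Nat.Coprime.pow_left _ (hp.out.coprime_iff_not_dvd.2 P.not_dvd_index)).dvd_of_dvd_mul_right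
        (Dvd.intro _ hmul.symm)
  obtain ⟨p₀, q₀, hp₀, hq₀, hne, P₀, Q₀, -, hQn, hsup, x, hx, hnc⟩ :=
    CfsgLib.MinimalNonNilpotent.structure_exists hX
  haveI := Fact.mk hp₀
  haveI := Fact.mk hq₀
  have hdisj : (P₀ : Subgroup X) ⊓ Q₀ = ⊥ :=
    Subgroup.inf_eq_bot_of_coprime (IsPGroup.coprime_card_of_ne p₀ q₀ hne _ _ P₀.isPGroup' Q₀.isPGroup')
  have hcardX : Nat.card X = Nat.card (P₀ : Subgroup X) * Nat.card (Q₀ : Subgroup X) := by
    rw [← CfsgLib.Coprime.card_sup_of_disjoint (le_top.trans (Subgroup.normalizer_eq_top _).ge)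
      (by rwa [inf_comm]), hsup, Subgroup.card_top]
  haveI : Subsingleton (Sylow p X) := letI := Sylow.unique_of_normal P hPn; inferInstance
  have hP1 : (P : Subgroup X) ≠ ⊥ := by
    intro h
    rw [h, Subgroup.card_bot] at hPcard
    exact hnn (IsPGroup.of_card (p := q) (n := r) (by rw [hcard, ← hPcard, one_mul])).isNilpotent
  have hpp₀ : p ≠ p₀ := by
    rintro rfl
    have hPP : P = P₀ := Subsingleton.elim _ _
    subst hPP
    refine hnc fun a ha => Subgroup.mem_centralizer_iff.2 fun b hb => ?_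
    have h1 : ⁅a, b⁆ ∈ (P : Subgroup X) ⊓ Q₀ :=
      ⟨Subgroup.commutator_le_left _ _ (Subgroup.commutator_mem_commutator ha hb),
        Subgroup.commutator_le_right _ _ (Subgroup.commutator_mem_commutator ha hb)⟩
    rw [hdisj, Subgroup.mem_bot, commutatorElement_eq_one_iff_mul_comm] at h1
    exact h1.symm
  have hpq₀ : p = q₀ := by
    obtain ⟨k, hk⟩ := IsPGroup.iff_card.1 P.isPGroup'
    have hk0 : k ≠ 0 := fun h => hP1 (Subgroup.card_eq_one.1 (by rw [hk, h, pow_zero]))
    have hdvd : p ∣ Nat.card (P₀ : Subgroup X) * Nat.card (Q₀ : Subgroup X) := by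
      rw [← hcardX]
      exact ((dvd_pow_self p hk0).trans (dvd_of_eq hk.symm)).trans (Subgroup.card_subgroup_dvd_card _)
    rcases hp.out.dvd_mul.1 hdvd with h | h
    · obtain ⟨i, hi⟩ := IsPGroup.iff_card.1 P₀.isPGroup'
      exact absurd ((Nat.prime_dvd_prime_iff_eq hp.out hp₀).1 (hp.out.dvd_of_dvd_pow (hi ▸ h))) hpp₀
    · obtain ⟨i, hi⟩ := IsPGroup.iff_card.1 Q₀.isPGroup'
      exact (Nat.prime_dvd_prime_iff_eq hp.out hq₀).1 (hp.out.dvd_of_dvd_pow (hi ▸ h))
  subst hpq₀
  have hPQ : Q₀ = P := Subsingleton.elim _ _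
  subst hPQ
  have hxord : orderOf x = q ^ r := by
    rw [← Nat.card_zpowers, ← hx]
    have h := hcardX
    rw [hcard, hPcard, mul_comm] at h
    exact (Nat.eq_of_mul_eq_mul_right (pow_pos hp.out.pos t) h).symm
  have hp₀q : p₀ = q := by
    obtain ⟨i, hi⟩ := IsPGroup.iff_card.1 P₀.isPGroup'
    rw [hx, Nat.card_zpowers, hxord] at hi
    exact ((Nat.prime_dvd_prime_iff_eq hq.out hp₀).1
      (hq.out.dvd_of_dvd_pow (hi ▸ dvd_pow_self q (by omega)))).symm
  subst hp₀q
  have hxp : (Subgroup.zpowers x) ⊓ (Q₀ : Subgroup X) = ⊥ := hx ▸ hdisj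
  have hcardX' : Nat.card X = Nat.card (Subgroup.zpowers x) * Nat.card (Q₀ : Subgroup X) := hx ▸ hcardX
  have hkey : ∀ (y : X) (L : Subgroup X), y ∈ Subgroup.zpowers x → L ≤ Q₀ →
      (∀ z ∈ L, y * z * y⁻¹ ∈ L) → (Subgroup.zpowers y ≠ Subgroup.zpowers x ∨ L ≠ Q₀) →
      ∀ z ∈ L, y * z = z * y := by
    intro y L hy hL hinv hor z hz
    have hYx : Subgroup.zpowers y ≤ Subgroup.zpowers x := Subgroup.zpowers_le.2 hy
    have hn : Subgroup.zpowers y ≤ Subgroup.normalizer (L : Set X) :=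
      Subgroup.zpowers_le.2 (CfsgLib.Coprime.mem_normalizer_of_forall_conj hinv)
    have hint : L ⊓ Subgroup.zpowers y = ⊥ := le_bot_iff.1 (le_trans (le_inf
      (inf_le_right.trans hYx) (inf_le_left.trans hL)) hxp.le)
    have hlt : Subgroup.zpowers y ⊔ L ≠ ⊤ := by
      intro h
      have h1 := CfsgLib.Coprime.card_sup_of_disjoint hn hint
      rw [h, Subgroup.card_top, hcardX'] at h1
      have h2 := Subgroup.card_le_of_le hYx
      have h3 := Subgroup.card_le_of_le hL
      rcases hor with h' | h'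
      · have h4 : Nat.card (Subgroup.zpowers y) < Nat.card (Subgroup.zpowers x) :=
          lt_of_le_of_ne h2 fun e => h' (Subgroup.eq_of_le_of_card_ge hYx e.ge)
        exact (Nat.mul_lt_mul_of_lt_of_le h4 h3 Nat.card_pos).ne' h1
      · have h4 : Nat.card L < Nat.card (Q₀ : Subgroup X) :=
          lt_of_le_of_ne h3 fun e => h' (Subgroup.eq_of_le_of_card_ge hL e.ge)
        exact (Nat.mul_lt_mul_of_le_of_lt h2 h4 Nat.card_pos).ne' h1
    refine (CfsgLib.MinimalNonNilpotent.nilpotent_commute (hX.2 _ hlt)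
      (Subgroup.mem_sup_left (Subgroup.mem_zpowers y)) (Subgroup.mem_sup_right hz) ?_).eq
    exact CfsgLib.MinimalNonNilpotent.coprime_orderOf_of_sylow hne P₀.isPGroup' Q₀.isPGroup'
      (hx ▸ hy) (hL hz)
  have hxq : ∀ z ∈ (Q₀ : Subgroup X), x ^ p₀ * z = z * x ^ p₀ := by
    intro z hz
    refine hkey (x ^ p₀) Q₀ (Subgroup.pow_mem _ (Subgroup.mem_zpowers x) _) le_rfl
      (fun w hw => hPn.conj_mem w hw _) (Or.inl fun e => ?_) z hz
    have h1 := congrArg (fun H : Subgroup X => Nat.card H) e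
    simp only [Nat.card_zpowers] at h1
    rw [orderOf_pow, hxord, Nat.gcd_eq_right (dvd_pow_self p₀ (by omega))] at h1
    have h2 : p₀ ^ r / p₀ < p₀ ^ r := Nat.div_lt_self (pow_pos hp₀.pos r) hp₀.one_lt
    omega
  set α : MulAut ↥(Q₀ : Subgroup X) := MulAut.conjNormal x with hα
  refine ⟨Q₀, hPn, x, ⟨α, p₀, hp₀, hpp₀.symm, ?_, fun h => ?_, ?_⟩, Q₀.isPGroup', hPcard, hxord,
    rfl, hα, hxq⟩
  · rw [hα, ← map_pow]
    refine MulEquiv.ext fun z => Subtype.ext ?_
    rw [MulAut.conjNormal_apply, MulAut.one_apply, hxq z z.2, mul_inv_cancel_right]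
  · refine hnc ?_
    rw [hx, Subgroup.zpowers_le]
    refine Subgroup.mem_centralizer_iff.2 fun z hz => ?_
    have h' := congrArg Subtype.val (DFunLike.congr_fun h ⟨z, hz⟩)
    rw [hα, MulAut.conjNormal_apply, MulAut.one_apply] at h'
    exact (mul_inv_eq_iff_eq_mul.1 h').symm
  · intro L hL hLi z hz
    refine Subtype.ext ?_
    rw [hα, MulAut.conjNormal_apply]
    have hsub : L.map (Q₀ : Subgroup X).subtype ≠ Q₀ := fun e => hL
      (Subgroup.map_injective (Q₀ : Subgroup X).subtype_injective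
        (e.trans (by rw [← MonoidHom.range_eq_map, Subgroup.range_subtype])))
    rw [hkey x _ (Subgroup.mem_zpowers x) (Subgroup.map_subtype_le L) ?_ (Or.inr hsub) z ⟨z, hz, rfl⟩,
      mul_inv_cancel_right]
    rintro _ ⟨w, hw, rfl⟩
    exact ⟨α w, hLi w hw, MulAut.conjNormal_apply x w⟩

/-- A minimal non-`p`-nilpotent group of order `p^t q^r` is bounded and maps onto the base group
with central kernel. -/
theorem exists_hom_base {X : Type*} [Group X] [Finite X] {r : ℕ} (hpq : p ≠ q) (hr : 1 ≤ r)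
    (h1 : ¬ Cfsg.HasNormalPComplement p X)
    (h2 : ∀ H : Subgroup X, H ≠ ⊤ → Cfsg.HasNormalPComplement p H)
    {t : ℕ} (hcard : Nat.card X = p ^ t * q ^ r)
    {ζ : (GaloisField p (orderOf (p : ZMod q)))ˣ} {hn : ζ ^ (q ^ r) = 1}
    (hζ : orderOf (Units.val ζ) = q) :
    Nat.card X ≤ p ^ (if orderOf (p : ZMod q) % 2 = 1 then orderOf (p : ZMod q)
      else 3 * orderOf (p : ZMod q) / 2) * q ^ r ∧
    ∃ f : X →* Base ζ (q ^ r) hn, Function.Surjective f ∧ f.ker ≤ Subgroup.center X := by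
  classical
  obtain ⟨P, hPn, x, D, hP, hPcard, hxord, hDq, hα, hxq⟩ := exists_generator hpq hr h1 h2 hcard
  have ha0 := (orderOf_pos' (p := p) (q := q) hpq).ne'
  refine ⟨?_, ?_⟩
  · rw [hcard, ← hPcard]
    exact Nat.mul_le_mul_right _ (card_le D hP hDq rfl ha0 hζ)
  obtain ⟨j, φ, hj, hφ, hker, hφα⟩ := exists_frattini_model D hP hDq rfl ha0 hζ
  haveI : NeZero (q ^ r) := ⟨pow_ne_zero _ hq.out.ne_zero⟩
  set y := x ^ j with hy
  have hyord : orderOf y = q ^ r := by
    rw [hy, Nat.Coprime.orderOf_pow (by rw [hxord]; exact Nat.Coprime.pow_left r hj.symm), hxord]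
  have hyn : y ^ (q ^ r) = 1 := by rw [← hyord, pow_orderOf_eq_one]
  let fg : Multiplicative (ZMod (q ^ r)) →* X := powHom y (q ^ r) hyn
  let act : Multiplicative (ZMod (q ^ r)) →* MulAut ↥P := MulAut.conjNormal.comp fg
  let Ψ : ↥P ⋊[act] Multiplicative (ZMod (q ^ r)) →* X :=
    SemidirectProduct.lift P.subtype fg fun c => MonoidHom.ext fun z => MulAut.conjNormal_apply (fg c) z
  have hfgy : fg (Multiplicative.ofAdd 1) = y := powHom_one y (q ^ r) hyn
  have hΨinl : ∀ z : P, Ψ (SemidirectProduct.inl z) = z := fun z => by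
    simp [Ψ]
  have hΨsurj : Function.Surjective Ψ := by
    rw [← MonoidHom.range_eq_top]
    have hPle : P ≤ Ψ.range := fun z hz => ⟨SemidirectProduct.inl ⟨z, hz⟩, hΨinl ⟨z, hz⟩⟩
    have hyle : Subgroup.zpowers y ≤ Ψ.range := Subgroup.zpowers_le.2
      ⟨SemidirectProduct.inr (Multiplicative.ofAdd 1), by simp [Ψ, hfgy]⟩
    have hd1 := Subgroup.card_dvd_of_le hPle
    have hd2 := Subgroup.card_dvd_of_le hyle
    rw [hPcard] at hd1
    rw [Nat.card_zpowers, hyord] at hd2
    refine Subgroup.eq_top_of_card_eq _ (Nat.dvd_antisymm (Subgroup.card_subgroup_dvd_card _) ?_)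
    rw [hcard]
    exact (Nat.Coprime.pow _ _ ((Nat.coprime_primes hp.out hq.out).2 hpq)).mul_dvd_of_dvd_of_dvd hd1 hd2
  haveI : Finite (↥P ⋊[act] Multiplicative (ZMod (q ^ r))) := Finite.of_equiv _ SemidirectProduct.equivProd.symm
  have hΨbij : Function.Bijective Ψ := by
    rw [Nat.bijective_iff_surjective_and_card]
    refine ⟨hΨsurj, ?_⟩
    rw [hcard, Nat.card_congr SemidirectProduct.equivProd, Nat.card_prod, hPcard,
      Nat.card_congr Multiplicative.toAdd, Nat.card_zmod]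
  have hcompat : ∀ c, φ.comp (act c).toMonoidHom =
      (baseAct ζ (q ^ r) hn ((MonoidHom.id _) c)).toMonoidHom.comp φ := by
    intro c
    obtain ⟨k, rfl⟩ : ∃ k : ℕ, Multiplicative.ofAdd (k : ZMod (q ^ r)) = c :=
      ⟨c.toAdd.val, by rw [ZMod.natCast_rightInverse, ofAdd_toAdd]⟩
    have hact : act (Multiplicative.ofAdd (k : ZMod (q ^ r))) = (D.α ^ j) ^ k := by
      show MulAut.conjNormal (fg _) = _
      rw [show fg (Multiplicative.ofAdd (k : ZMod (q ^ r))) = y ^ k from powHom_ofAdd y _ hyn k, hy,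
        map_pow, map_pow, hα]
    refine MonoidHom.ext fun z => ?_
    show φ (act _ z) = baseAct ζ (q ^ r) hn _ (φ z)
    rw [hact, MonoidHom.id_apply, baseAct_ofAdd]
    clear hact
    induction k generalizing z with
    | zero => simp
    | succ k ih => rw [pow_succ', MulAut.mul_apply, hφα, ih, toAdd_ofAdd, pow_succ', mul_assoc]
  let g : ↥P ⋊[act] Multiplicative (ZMod (q ^ r)) →* Base ζ (q ^ r) hn :=
    SemidirectProduct.map φ (MonoidHom.id _) hcompat
  let e := MulEquiv.ofBijective Ψ hΨbij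
  refine ⟨g.comp e.symm.toMonoidHom, ?_, ?_⟩
  · refine Function.Surjective.comp (g := g) ?_ e.symm.surjective
    intro b
    obtain ⟨z, hz⟩ := hφ b.left
    exact ⟨⟨z, b.right⟩, SemidirectProduct.ext hz rfl⟩
  · intro w hw
    obtain ⟨v, rfl⟩ := e.surjective w
    have hgv : g v = 1 := by simpa using hw
    have hr0 : v.right = 1 := congrArg SemidirectProduct.right hgv
    have hl0 : φ v.left = 1 := congrArg SemidirectProduct.left hgv
    have hv : v = SemidirectProduct.inl v.left := SemidirectProduct.ext rfl hr0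
    have hmem : v.left ∈ frattini ↥P := hker ▸ hl0
    rw [show e v = (v.left : X) from (congrArg Ψ hv).trans (hΨinl _)]
    refine Subgroup.mem_center_iff.2 fun u => ?_
    obtain ⟨⟨z, c⟩, rfl⟩ := hΨsurj u
    have hz : (z : X) * v.left = v.left * z :=
      congrArg Subtype.val (Subgroup.mem_center_iff.1 (D.frattini_le_center hP hmem) z)
    have hxv : Commute x (v.left : X) := by
      have h' := congrArg Subtype.val (D.fix_frattini hP hmem)
      rw [hα, MulAut.conjNormal_apply] at h'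
      exact mul_inv_eq_iff_eq_mul.1 h'
    have hcv : Commute (fg c) (v.left : X) := by
      obtain ⟨k, rfl⟩ : ∃ k : ℕ, Multiplicative.ofAdd (k : ZMod (q ^ r)) = c :=
        ⟨c.toAdd.val, by rw [ZMod.natCast_rightInverse, ofAdd_toAdd]⟩
      rw [show fg (Multiplicative.ofAdd (k : ZMod (q ^ r))) = y ^ k from powHom_ofAdd y _ hyn k, hy]
      exact (hxv.pow_left j).pow_left k
    have hΨu : Ψ ⟨z, c⟩ = (z : X) * fg c := rfl
    rw [hΨu]
    exact ((show Commute (z : X) (v.left : X) from hz).mul_left hcv).eq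

end CfsgLib.Universal85
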