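import Mathlib
import Cfsg.Agent.Lib.Universal85.Schmidt
import Cfsg.Agent.Lib.Universal85.Heisenberg

/-!
The universal minimal non-`p`-nilpotent group of given `q`-part.
-/

set_option autoImplicit false
set_option linter.style.haveILetI false

namespace CfsgLib.Universal85

universe u

/-- A minimal non-`p`-nilpotent group has no proper subgroup mapping onto a group without normal
`p`-complement. -/
theorem eq_top_of_map_eq_top_of_minimal {p q r : ℕ} [Fact p.Prime] [Fact q.Prime] (hpq : p ≠ q)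
    {ζ : (GaloisField p (orderOf (p : ZMod q)))ˣ} {hn : ζ ^ (q ^ r) = 1}
    (hζ : orderOf (Units.val ζ) = q) {X : Type*} [Group X] [Finite X]
    (h2 : ∀ K : Subgroup X, K ≠ ⊤ → Cfsg.HasNormalPComplement p K)
    (f : X →* Base ζ (q ^ r) hn) (L : Subgroup X) (hL : L.map f = ⊤) : L = ⊤ := by
  by_contra hne
  refine not_hasNormalPComplement_of_surjective hpq hζ (f.comp L.subtype) ?_ (h2 L hne)
  intro b
  obtain ⟨x, hx, rfl⟩ := (hL ▸ Subgroup.mem_top b : b ∈ L.map f)
  exact ⟨⟨x, hx⟩, rfl⟩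

/-- The central extension of the base group which is universal. -/
theorem exists_example {p q r : ℕ} [Fact p.Prime] [Fact q.Prime] (hpq : p ≠ q)
    {ζ : (GaloisField p (orderOf (p : ZMod q)))ˣ} {hn : ζ ^ (q ^ r) = 1}
    (hζ : orderOf (Units.val ζ) = q) {a₀ : ℕ}
    (ha₀ : a₀ = if orderOf (p : ZMod q) % 2 = 1 then orderOf (p : ZMod q)
      else 3 * orderOf (p : ZMod q) / 2) :
    ∃ (G₀ : Type u) (_ : Group G₀) (_ : Finite G₀) (f : G₀ →* Base ζ (q ^ r) hn),
      Function.Surjective f ∧ f.ker ≤ Subgroup.center G₀ ∧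
      (∀ L : Subgroup G₀, L ≠ ⊤ → L.map f ≠ ⊤) ∧ Nat.card G₀ = p ^ a₀ * q ^ r := by
  obtain ⟨E, iG, iF, f, hf, hc, hD, hcard⟩ : ∃ (E : Type) (_ : Group E) (_ : Finite E)
      (f : E →* Base ζ (q ^ r) hn), Function.Surjective f ∧ f.ker ≤ Subgroup.center E ∧
      f.ker ≤ commutator E ∧ Nat.card E = p ^ a₀ * q ^ r := by
    by_cases hodd : orderOf (p : ZMod q) % 2 = 1
    · rw [if_pos hodd] at ha₀
      subst ha₀
      refine ⟨Base ζ (q ^ r) hn, inferInstance, inferInstance, MonoidHom.id _,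
        Function.surjective_id, ?_, ?_, card_base hpq⟩
      · intro x hx
        rw [MonoidHom.mem_ker, MonoidHom.id_apply] at hx
        rw [hx]; exact one_mem _
      · intro x hx
        rw [MonoidHom.mem_ker, MonoidHom.id_apply] at hx
        rw [hx]; exact one_mem _
    · rw [if_neg hodd] at ha₀
      subst ha₀
      exact exists_heisenberg hpq (by omega) hζ
  let e : ULift.{u} E ≃* E := MulEquiv.ulift
  refine ⟨ULift.{u} E, inferInstance, inferInstance, f.comp e.toMonoidHom,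
    hf.comp e.surjective, ?_, ?_, by rw [Nat.card_congr e.toEquiv, hcard]⟩
  · intro x hx
    refine Subgroup.mem_center_iff.2 fun g => e.injective ?_
    rw [map_mul, map_mul]
    exact Subgroup.mem_center_iff.1 (hc (show e x ∈ f.ker from hx)) (e g)
  · intro L hL hmap
    rw [← Subgroup.map_map] at hmap
    have := eq_top_of_map_eq_top f hc hD _ hmap
    exact hL (Subgroup.map_injective (f := e.toMonoidHom) e.injective
      (this.trans (Subgroup.map_top_of_surjective _ e.surjective).symm))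

/-- The universal property. -/
theorem exists_universal {p q r : ℕ} [Fact p.Prime] [Fact q.Prime] (hpq : p ≠ q) (hr : 1 ≤ r)
    {a₀ : ℕ} (ha₀ : a₀ = if orderOf (p : ZMod q) % 2 = 1 then orderOf (p : ZMod q)
      else 3 * orderOf (p : ZMod q) / 2) :
    ∃ (G₀ : Type u) (_ : Group G₀) (_ : Finite G₀),
      (¬ Cfsg.HasNormalPComplement p G₀ ∧
        ∀ K : Subgroup G₀, K ≠ ⊤ → Cfsg.HasNormalPComplement p ↥K) ∧
      Nat.card G₀ = p ^ a₀ * q ^ r ∧
      ∀ (X : Type u) [Group X] [Finite X], (¬ Cfsg.HasNormalPComplement p X ∧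
          ∀ K : Subgroup X, K ≠ ⊤ → Cfsg.HasNormalPComplement p ↥K) →
        (∃ t : ℕ, Nat.card X = p ^ t * q ^ r) →
        ∃ φ : G₀ →* X, Function.Surjective φ ∧ φ.ker ≤ Subgroup.center G₀ := by
  classical
  obtain ⟨z, hz⟩ := exists_root (p := p) (q := q) hpq
  have hz0 : z ≠ 0 := fun h => by
    rw [h, orderOf_zero] at hz
    exact (Fact.out : q.Prime).pos.ne hz
  set ζ := Units.mk0 z hz0 with hζdef
  have hζ : orderOf (Units.val ζ) = q := hz
  have hn : ζ ^ (q ^ r) = 1 := by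
    refine orderOf_dvd_iff_pow_eq_one.1 ?_
    rw [← orderOf_units, hζ]
    exact dvd_pow_self q (by omega)
  obtain ⟨G₀, iG, iF, f₀, hf₀, hc₀, hs₀, hcard₀⟩ := exists_example.{u} hpq (hn := hn) hζ ha₀
  refine ⟨G₀, iG, iF, minimal_of_central hpq hζ hr f₀ hf₀ hc₀ hs₀, hcard₀, ?_⟩
  intro X _ _ hX ⟨t, ht⟩
  obtain ⟨-, fX, hfX, hcX⟩ := exists_hom_base (hn := hn) hpq hr hX.1 hX.2 ht hζ
  -- the fibre product
  let d₁ : G₀ × X →* Base ζ (q ^ r) hn := f₀.comp (MonoidHom.fst G₀ X)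
  let d₂ : G₀ × X →* Base ζ (q ^ r) hn := fX.comp (MonoidHom.snd G₀ X)
  let Y : Subgroup (G₀ × X) := d₁.eqLocus d₂
  have hY : Y.map d₁ = ⊤ := top_le_iff.1 fun b _ => by
    obtain ⟨g, rfl⟩ := hf₀ b
    obtain ⟨x, hx⟩ := hfX (f₀ g)
    exact ⟨(g, x), hx.symm, rfl⟩
  obtain ⟨H, hHY, hH⟩ := Finite.exists_le_minimal
    (p := fun H : Subgroup (G₀ × X) => H ≤ Y ∧ H.map d₁ = ⊤) (show Y ≤ Y ∧ _ from ⟨le_rfl, hY⟩)
  obtain ⟨⟨hHY', hHmap⟩, hHmin⟩ := hH
  let f : H →* Base ζ (q ^ r) hn := d₁.comp H.subtype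
  have hf : Function.Surjective f := fun b => by
    obtain ⟨w, hw, rfl⟩ := (hHmap ▸ Subgroup.mem_top b : b ∈ H.map d₁)
    exact ⟨⟨w, hw⟩, rfl⟩
  have hfker : ∀ w ∈ f.ker, f₀ (w : G₀ × X).1 = 1 ∧ fX (w : G₀ × X).2 = 1 := by
    intro w hw
    have h1 : f₀ (w : G₀ × X).1 = 1 := hw
    exact ⟨h1, (show f₀ _ = fX _ from hHY' w.2).symm.trans h1⟩
  have hc : f.ker ≤ Subgroup.center H := by
    intro w hw
    obtain ⟨h1, h2⟩ := hfker w hw
    refine Subgroup.mem_center_iff.2 fun g => Subtype.ext (Prod.ext ?_ ?_)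
    · exact Subgroup.mem_center_iff.1 (hc₀ h1) _
    · exact Subgroup.mem_center_iff.1 (hcX h2) _
  have hprop : ∀ L : Subgroup H, L ≠ ⊤ → L.map f ≠ ⊤ := by
    intro L hL hmap
    refine hL (Subgroup.map_injective H.subtype_injective ?_)
    rw [← MonoidHom.range_eq_map, H.range_subtype]
    refine le_antisymm (Subgroup.map_subtype_le L) (hHmin ⟨?_, ?_⟩ (Subgroup.map_subtype_le L))
    · exact (Subgroup.map_subtype_le L).trans hHY'
    · rw [Subgroup.map_map]; exact hmap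
  obtain ⟨hH1, hH2⟩ := minimal_of_central hpq hζ hr f hf hc hprop
  -- the order of `H`
  have hHcard : ∃ t', Nat.card H = p ^ t' * q ^ r := by
    have hB := card_base (r := r) (ζ := ζ) (hn := hn) hpq
    have hker : IsPGroup p f.ker := by
      have key : ∀ {A : Type u} [Group A] [Finite A] {s : ℕ} (g : A →* Base ζ (q ^ r) hn),
          Function.Surjective g → Nat.card A = p ^ s * q ^ r → IsPGroup p g.ker := by
        intro A _ _ s g hg hA
        have h1 := Subgroup.card_mul_index g.ker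
        rw [Subgroup.index_ker, MonoidHom.range_eq_top.2 hg, Subgroup.card_top, hB, hA, ← mul_assoc] at h1
        have h2 := Nat.eq_of_mul_eq_mul_right (pow_pos (Fact.out : q.Prime).pos r) h1
        obtain ⟨i, -, hi⟩ := (Nat.dvd_prime_pow (Fact.out : p.Prime)).1 (Dvd.intro _ h2)
        exact IsPGroup.of_card hi
      intro w
      obtain ⟨h1, h2⟩ := hfker w w.2
      obtain ⟨i, hi⟩ := key f₀ hf₀ hcard₀ ⟨_, h1⟩
      obtain ⟨k, hk⟩ := key fX hfX ht ⟨_, h2⟩
      refine ⟨i + k, Subtype.ext (Subtype.ext (Prod.ext ?_ ?_))⟩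
      · have := congrArg Subtype.val hi
        simp only [SubmonoidClass.coe_pow] at this ⊢
        simp only [Prod.pow_fst, OneMemClass.coe_one, Prod.fst_one]
        rw [pow_add, pow_mul, this]
        simp
      · have := congrArg Subtype.val hk
        simp only [SubmonoidClass.coe_pow] at this ⊢
        simp only [Prod.pow_snd, OneMemClass.coe_one, Prod.snd_one]
        rw [pow_add, mul_comm, pow_mul, this]
        simp
    obtain ⟨i, hi⟩ := IsPGroup.iff_card.1 hker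
    refine ⟨i + orderOf (p : ZMod q), ?_⟩
    rw [← Subgroup.card_mul_index f.ker, Subgroup.index_ker, MonoidHom.range_eq_top.2 hf,
      Subgroup.card_top, hB, hi, pow_add, mul_assoc]
  obtain ⟨t', ht'⟩ := hHcard
  obtain ⟨hbound, -⟩ := exists_hom_base (hn := hn) hpq hr hH1 hH2 ht' hζ
  rw [← ha₀, ← hcard₀] at hbound
  -- the two projections
  let π₀ : H →* G₀ := (MonoidHom.fst G₀ X).comp H.subtype
  let π₁ : H →* X := (MonoidHom.snd G₀ X).comp H.subtype
  have hπ₀ : Function.Surjective π₀ := by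
    rw [← MonoidHom.range_eq_top]
    by_contra hne
    refine hs₀ _ hne (top_le_iff.1 fun b _ => ?_)
    obtain ⟨w, rfl⟩ := hf b
    exact ⟨π₀ w, ⟨w, rfl⟩, rfl⟩
  have hπ₁ : Function.Surjective π₁ := by
    rw [← MonoidHom.range_eq_top]
    refine eq_top_of_map_eq_top_of_minimal hpq hζ hX.2 fX _ (top_le_iff.1 fun b _ => ?_)
    obtain ⟨w, rfl⟩ := hf b
    exact ⟨π₁ w, ⟨w, rfl⟩, (show f₀ _ = fX _ from hHY' w.2).symm⟩
  have hbij : Function.Bijective π₀ := (Nat.bijective_iff_surjective_and_card π₀).2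
    ⟨hπ₀, le_antisymm hbound (Nat.card_le_card_of_surjective π₀ hπ₀)⟩
  let e := MulEquiv.ofBijective π₀ hbij
  refine ⟨π₁.comp e.symm.toMonoidHom, hπ₁.comp e.symm.surjective, fun g hg => hc₀ ?_⟩
  obtain ⟨w, rfl⟩ := e.surjective g
  have hw : π₁ w = 1 := by simpa using hg
  show f₀ (π₀ w) = 1
  rw [show f₀ (π₀ w) = fX (π₁ w) from hHY' w.2, hw, map_one]

end CfsgLib.Universal85
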